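import Mathlib
import Groth.Agent.GenDim.Height
import Groth.Agent.EGA43.DvrSection

set_option autoImplicit false
set_option backward.isDefEq.respectTransparency false
universe u
open TensorProduct

namespace Groth.Agent.Equidim

/-- The dimension of a finite type domain over a field is its transcendence degree. -/
theorem exists_trdeg (k D : Type u) [Field k] [CommRing D] [IsDomain D] [Algebra k D]
    [Algebra.FiniteType k D] : ∃ s : ℕ, ringKrullDim D = s ∧ Algebra.trdeg k D = s := by
  obtain ⟨s, g, hg, hgf⟩ := exists_finite_inj_algHom_of_fg k D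
  refine ⟨s, ?_, ?_⟩
  · rw [← Segre.Param.ringKrullDim_eq_of_isIntegral g.toRingHom hgf.to_isIntegral hg,
      MvPolynomial.ringKrullDim_of_isNoetherianRing, ringKrullDim_eq_zero_of_field k]
    simp
  · algebraize [g.toRingHom]
    haveI : IsScalarTower k (MvPolynomial (Fin s) k) D :=
      IsScalarTower.of_algebraMap_eq fun c => (g.commutes c).symm
    haveI : FaithfulSMul (MvPolynomial (Fin s) k) D :=
      (faithfulSMul_iff_algebraMap_injective _ _).mpr hg
    haveI : Module.Finite (MvPolynomial (Fin s) k) D := hgf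
    haveI : Algebra.IsAlgebraic (MvPolynomial (Fin s) k) D := Algebra.IsIntegral.isAlgebraic
    rw [← trdeg_add_eq k (MvPolynomial (Fin s) k) (A := D),
      trdeg_eq_zero (R := MvPolynomial (Fin s) k) (A := D), add_zero,
      MvPolynomial.trdeg_of_isDomain]
    simp

/-- Auxiliary form: localize at a subring of full transcendence degree in `F ⧸ P`. -/
theorem height_add_aux (K R L F FS : Type u) [Field K] [CommRing R] [Algebra K R] [Field L]
    [Algebra R L] [IsFractionRing R L] [Algebra K L] [IsScalarTower K R L]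
    [CommRing F] [IsDomain F] [Algebra K F] [Algebra R F] [IsScalarTower K R F]
    [CommRing FS] [IsDomain FS] [Algebra F FS] [Algebra K FS] [Algebra L FS] [IsScalarTower K F FS]
    [IsScalarTower K L FS] [Algebra.FiniteType L FS] [IsDomain R]
    (S : Submonoid F) [IsLocalization S FS] (hS : S ≤ nonZeroDivisors F)
    (P : Ideal F) [P.IsPrime] (hdisj : Disjoint (S : Set F) (P : Set F)) (s r : ℕ)
    (hst : Algebra.trdeg K F = s) (hrt : Algebra.trdeg K (F ⧸ P) = r) (hR : Algebra.trdeg K R = r) :
    (s : WithBot ℕ∞) ≤ (P.height : WithBot ℕ∞) + r := by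
  haveI : FaithfulSMul K R := (faithfulSMul_iff_algebraMap_injective _ _).mpr (RingHom.injective _)
  have htL : Algebra.trdeg K L = r := by
    haveI : Algebra.IsAlgebraic R L := IsLocalization.isAlgebraic _ (nonZeroDivisors _)
    rw [← trdeg_add_eq K R (A := L), trdeg_eq_zero (R := R) (A := L), add_zero, hR]
  obtain ⟨s', hs', hst'⟩ := exists_trdeg L FS
  have h1 : s ≤ r + s' := by
    have h := trdeg_le_of_injective (IsScalarTower.toAlgHom K F FS) (IsLocalization.injective FS hS)
    rw [hst, ← trdeg_add_eq K L (A := FS), htL, hst'] at h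
    exact_mod_cast h
  -- the extended prime is maximal
  let PS := P.map (algebraMap F FS)
  haveI hPS : PS.IsPrime := IsLocalization.isPrime_of_isPrime_disjoint S FS P inferInstance hdisj
  obtain ⟨r₂, hr₂, hrt₂⟩ := exists_trdeg L (FS ⧸ PS)
  haveI : PS.IsMaximal := by
    let ψ : FS →ₐ[K] P.ResidueField :=
      IsLocalization.liftAlgHom (M := S) (f := IsScalarTower.toAlgHom K F P.ResidueField) fun y => by
        refine isUnit_iff_ne_zero.mpr fun h => ?_
        exact Set.disjoint_left.mp hdisj y.2 (Ideal.algebraMap_residueField_eq_zero.mp h)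
    have hker : RingHom.ker ψ.toRingHom = PS := by
      refine le_antisymm (fun z hz => ?_) (Ideal.map_le_iff_le_comap.mpr fun a ha => ?_)
      · obtain ⟨a, m, rfl⟩ := IsLocalization.exists_mk'_eq S z
        have h2 : ψ (algebraMap F FS a) = 0 := by
          rw [← IsLocalization.mk'_spec FS a m, map_mul,
            show ψ (IsLocalization.mk' FS a m) = 0 from hz, zero_mul]
        simp only [ψ, IsLocalization.liftAlgHom_apply, IsLocalization.lift_eq] at h2
        exact IsLocalization.mk'_mem_map_algebraMap_iff S FS P a m |>.mpr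
          ⟨1, one_mem _, by simpa using Ideal.algebraMap_residueField_eq_zero.mp h2⟩
      · rw [Ideal.mem_comap, RingHom.mem_ker]
        simp [ψ, IsLocalization.lift_eq, ha]
    let ψ' : (FS ⧸ PS) →ₐ[K] P.ResidueField := Ideal.Quotient.liftₐ PS ψ fun a ha => by
      rw [← hker] at ha; exact ha
    have hinj : Function.Injective ψ' := by
      rw [injective_iff_map_eq_zero]
      intro a
      obtain ⟨a, rfl⟩ := Ideal.Quotient.mk_surjective a
      intro ha
      rw [Ideal.Quotient.eq_zero_iff_mem, ← hker]
      exact ha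
    have htres : Algebra.trdeg K P.ResidueField = r := by
      haveI : Algebra.IsAlgebraic (F ⧸ P) P.ResidueField := IsLocalization.isAlgebraic _ (nonZeroDivisors (F ⧸ P))
      rw [← trdeg_add_eq K (F ⧸ P) (A := P.ResidueField), trdeg_eq_zero (R := F ⧸ P) (A := P.ResidueField),
        add_zero, hrt]
    have h3 : r + r₂ ≤ r := by
      have h := trdeg_le_of_injective ψ' hinj
      rw [← trdeg_add_eq K L (A := FS ⧸ PS), htL, hrt₂, htres] at h
      exact_mod_cast h
    obtain rfl : r₂ = 0 := by omega
    refine Ideal.Quotient.maximal_of_isField _ ?_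
    haveI : Ring.KrullDimLE 0 (FS ⧸ PS) := Ring.krullDimLE_iff.mpr (by rw [hr₂])
    exact Ring.KrullDimLE.isField_of_isDomain
  have h4 := GenDim.ringKrullDim_le_height L FS PS
  rw [hs', show PS.height = P.height from IsLocalization.height_map_of_disjoint S P hdisj] at h4
  calc ((s : ℕ) : WithBot ℕ∞) ≤ ((s' + r : ℕ) : WithBot ℕ∞) := by exact_mod_cast (by omega : s ≤ s' + r)
    _ ≤ (P.height : WithBot ℕ∞) + r := by
        push_cast
        gcongr

set_option maxHeartbeats 1000000 in
theorem height_add_aux2 (K R F : Type u) [Field K] [CommRing R] [IsDomain R] [Algebra K R]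
    [CommRing F] [IsDomain F] [Algebra K F] [Algebra R F] [IsScalarTower K R F] [Algebra.FiniteType R F]
    (P : Ideal F) [P.IsPrime] (hφ : ∀ x : R, x ≠ 0 → algebraMap R F x ∉ P) (s r : ℕ)
    (hst : Algebra.trdeg K F = s) (hrt : Algebra.trdeg K (F ⧸ P) = r) (hR : Algebra.trdeg K R = r) :
    (s : WithBot ℕ∞) ≤ (P.height : WithBot ℕ∞) + r := by
  let S := Algebra.algebraMapSubmonoid F (nonZeroDivisors R)
  have hdisj : Disjoint (S : Set F) (P : Set F) := by
    rw [Set.disjoint_left]
    rintro _ ⟨x, hx, rfl⟩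
    exact hφ x (nonZeroDivisors.ne_zero hx)
  have hS : S ≤ nonZeroDivisors F := fun y hy => mem_nonZeroDivisors_iff_ne_zero.mpr fun h =>
    Set.disjoint_left.mp hdisj hy (by rw [h]; exact P.zero_mem)
  haveI : IsDomain (Localization S) := IsLocalization.isDomain_localization hS
  letI : Algebra (FractionRing R) (Localization S) := localizationAlgebra (nonZeroDivisors R) F
  haveI hT : IsScalarTower R (FractionRing R) (Localization S) :=
    IsScalarTower.of_algebraMap_eq fun x => by
      simp [RingHom.algebraMap_toAlgebra, localizationAlgebra, IsLocalization.map_eq,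
        ← IsScalarTower.algebraMap_apply, S]
  haveI : IsLocalization (Submonoid.map (algebraMap R F) (nonZeroDivisors R)) (Localization S) :=
    (inferInstance : IsLocalization S (Localization S))
  haveI : Algebra.FiniteType (FractionRing R) (Localization S) :=
    RingHom.finiteType_algebraMap.mp (RingHom.finiteType_localizationPreserves (algebraMap R F)
      (nonZeroDivisors R) (FractionRing R) (Localization S) (RingHom.finiteType_algebraMap.mpr inferInstance))
  haveI : IsScalarTower K (FractionRing R) (Localization S) := IsScalarTower.of_algebraMap_eq fun x => by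
    rw [IsScalarTower.algebraMap_apply K R (FractionRing R),
      ← IsScalarTower.algebraMap_apply R (FractionRing R) (Localization S),
      ← IsScalarTower.algebraMap_apply K R (Localization S)]
  exact height_add_aux K R (FractionRing R) F (Localization S) S hS P hdisj s r hst hrt hR

/- `dim D ≤ height P + dim D/P` for a finite type domain over a field. -/
set_option maxHeartbeats 1000000 in
theorem ringKrullDim_le_height_add (K F : Type u) [Field K] [CommRing F] [IsDomain F] [Algebra K F]
    [Algebra.FiniteType K F] (P : Ideal F) [P.IsPrime] :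
    ringKrullDim F ≤ (P.height : WithBot ℕ∞) + ringKrullDim (F ⧸ P) := by
  obtain ⟨s, hs, hst⟩ := exists_trdeg K F
  obtain ⟨r, hr, hrt⟩ := exists_trdeg K (F ⧸ P)
  obtain ⟨r', hr', ⟨b, hb⟩, -⟩ := GenDim.exists_indep K (F ⧸ P)
  obtain rfl : r = r' := by
    rw [hr] at hr'
    exact_mod_cast hr'
  let φ : MvPolynomial (Fin r) K →ₐ[K] F := MvPolynomial.aeval fun i => Quotient.out (b i)
  have hmk : (Ideal.Quotient.mkₐ K P).comp φ = MvPolynomial.aeval b := by
    refine MvPolynomial.algHom_ext fun i => ?_
    simp only [φ, AlgHom.comp_apply, MvPolynomial.aeval_X, Ideal.Quotient.mkₐ_eq_mk]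
    exact Quotient.out_eq (b i)
  have hφ : ∀ x, x ≠ 0 → φ x ∉ P := fun x hx h => hx (hb (by
    rw [map_zero, ← hmk]
    exact Ideal.Quotient.eq_zero_iff_mem.mpr h))
  letI := φ.toRingHom.toAlgebra
  haveI : IsScalarTower K (MvPolynomial (Fin r) K) F :=
    IsScalarTower.of_algebraMap_eq fun c => (φ.commutes c).symm
  haveI : Algebra.FiniteType (MvPolynomial (Fin r) K) F := Algebra.FiniteType.of_restrictScalars_finiteType K _ _
  rw [hs, hr]
  exact height_add_aux2 K (MvPolynomial (Fin r) K) F P hφ s r hst hrt (by rw [MvPolynomial.trdeg_of_isDomain]; simp)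

/-- Quasi-finiteness over `A[T₁, …, T_d]` at an isolated point. -/
theorem quasiFiniteAt_of_isolated {A D : Type u} [CommRing A] [CommRing D] [Algebra A D]
    [Algebra.FiniteType A D] {d : ℕ} (g : Fin d → D)
    (p : Ideal A) (Q : Ideal D) [hQ : Q.IsPrime] (hQp : Q.under A = p) (hg : ∀ i, g i ∈ Q)
    (hmin : ∀ Q' : Ideal D, Q'.IsPrime → Q' ≤ Q → Q'.under A = p → (∀ i, g i ∈ Q') → Q' = Q)
    (hmax : ∀ Q' : Ideal D, Q'.IsPrime → Q ≤ Q' → Q'.under A = p → Q' = Q) :
    letI := (MvPolynomial.aeval g : MvPolynomial (Fin d) A →ₐ[A] D).toRingHom.toAlgebra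
    Algebra.QuasiFiniteAt (MvPolynomial (Fin d) A) Q := by
  letI := (MvPolynomial.aeval g : MvPolynomial (Fin d) A →ₐ[A] D).toRingHom.toAlgebra
  haveI : IsScalarTower A (MvPolynomial (Fin d) A) D :=
    IsScalarTower.of_algebraMap_eq fun c => ((MvPolynomial.aeval g).commutes c).symm
  haveI : Algebra.FiniteType (MvPolynomial (Fin d) A) D :=
    Algebra.FiniteType.of_restrictScalars_finiteType A _ _
  let q : PrimeSpectrum D := ⟨Q, hQ⟩
  refine Algebra.QuasiFiniteAt.of_isOpen_singleton_fiber q ?_
  let p₁ := q.comap (algebraMap (MvPolynomial (Fin d) A) D)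
  let e := PrimeSpectrum.preimageHomeomorphFiber (MvPolynomial (Fin d) A) D p₁
  rw [← e.isOpen_image, Set.image_singleton]
  haveI : IsNoetherianRing (p₁.asIdeal.Fiber D) :=
    Algebra.FiniteType.isNoetherianRing p₁.asIdeal.ResidueField _
  let w : PrimeSpectrum (p₁.asIdeal.Fiber D) := e ⟨q, rfl⟩
  let w' : AlgebraicGeometry.Spec (CommRingCat.of (p₁.asIdeal.Fiber D)) := w
  have key : ∀ v : PrimeSpectrum (p₁.asIdeal.Fiber D),
      ((e.symm v).1.asIdeal ≤ Q ∨ Q ≤ (e.symm v).1.asIdeal) → v = w := fun v hv => by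
    have hover : (e.symm v).1.asIdeal.under (MvPolynomial (Fin d) A) = Q.under (MvPolynomial (Fin d) A) :=
      congrArg PrimeSpectrum.asIdeal (e.symm v).2
    have hA : (e.symm v).1.asIdeal.under A = p := by
      rw [← Ideal.under_under (B := MvPolynomial (Fin d) A), hover, Ideal.under_under, hQp]
    have hgv : ∀ i, g i ∈ (e.symm v).1.asIdeal := fun i => by
      have h1 : MvPolynomial.X i ∈ Q.under (MvPolynomial (Fin d) A) := by
        show (MvPolynomial.aeval g) (MvPolynomial.X i) ∈ Q
        simpa using hg i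
      rw [← hover] at h1
      have h2 : (MvPolynomial.aeval g) (MvPolynomial.X i) ∈ (e.symm v).1.asIdeal := h1
      simpa using h2
    have hQv : (e.symm v).1.asIdeal = Q := hv.elim (fun h => hmin _ (e.symm v).1.2 h hA hgv)
      (fun h => hmax _ (e.symm v).1.2 h hA)
    rw [← e.apply_symm_apply v]
    exact congrArg e (Subtype.ext (PrimeSpectrum.ext hQv))
  have hmap : ∀ {v v' : PrimeSpectrum (p₁.asIdeal.Fiber D)}, v ⤳ v' →
      (e.symm v).1.asIdeal ≤ (e.symm v').1.asIdeal := fun {v v'} h =>
    (PrimeSpectrum.le_iff_specializes _ _).mpr ((h.map e.symm.continuous).map continuous_subtype_val)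
  have hw : (e.symm w).1.asIdeal = Q :=
    congrArg (fun z => (z : PrimeSpectrum D).asIdeal) (congrArg Subtype.val (e.symm_apply_apply ⟨q, rfl⟩))
  exact Groth.Agent.EGA43.DvrSection.isOpen_singleton
    (F := AlgebraicGeometry.Spec (CommRingCat.of (p₁.asIdeal.Fiber D))) w'
    (fun v hv => key v (Or.inl (hw ▸ hmap hv))) (fun v hv => key v (Or.inr (hw ▸ hmap hv)))

/-- The quasi-finite locus contains a basic open around each of its points. -/
theorem exists_qf_nbhd {R D : Type u} [CommRing R] [CommRing D] [Algebra R D] [Algebra.FiniteType R D]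
    (Q : Ideal D) [Q.IsPrime] [Algebra.QuasiFiniteAt R Q] :
    ∃ r ∉ Q, ∀ P : PrimeSpectrum D, r ∉ P.asIdeal → Algebra.QuasiFiniteAt R P.asIdeal := by
  obtain ⟨r, hr, H⟩ := Algebra.zariskisMainProperty_iff'.mp
    (Algebra.ZariskisMainProperty.of_finiteType_of_weaklyQuasiFiniteAt (R := R) Q)
  exact ⟨r, hr, fun P hP =>
    Algebra.ZariskisMainProperty.quasiFiniteAt P.asIdeal (Algebra.zariskisMainProperty_iff'.mpr ⟨r, hP, H⟩)⟩

/- At a point quasi-finite over `A[T₁, …, T_d]` the closure in the fibre has dimension at most `d`. -/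
set_option maxHeartbeats 1000000 in
theorem dim_le_of_qf {A D : Type u} [CommRing A] [CommRing D] [Algebra A D]
    [Algebra.FiniteType A D] {d : ℕ} (g : Fin d → D) (p : PrimeSpectrum A)
    (M : PrimeSpectrum (p.asIdeal.Fiber D))
    (hqf : letI := (MvPolynomial.aeval g : MvPolynomial (Fin d) A →ₐ[A] D).toRingHom.toAlgebra
      Algebra.QuasiFiniteAt (MvPolynomial (Fin d) A)
        ((PrimeSpectrum.preimageEquivFiber A D p).symm M).1.asIdeal) :
    ringKrullDim (p.asIdeal.Fiber D ⧸ M.asIdeal) ≤ (d : ℕ) := by
  letI := (MvPolynomial.aeval g : MvPolynomial (Fin d) A →ₐ[A] D).toRingHom.toAlgebra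
  haveI : IsScalarTower A (MvPolynomial (Fin d) A) D :=
    IsScalarTower.of_algebraMap_eq fun c => ((MvPolynomial.aeval g).commutes c).symm
  obtain ⟨⟨P, hP⟩, rfl⟩ := (PrimeSpectrum.preimageEquivFiber A D p).surjective M
  rw [Equiv.symm_apply_apply] at hqf
  haveI := P.2
  haveI : P.asIdeal.LiesOver p.asIdeal := ⟨(congrArg PrimeSpectrum.asIdeal hP).symm⟩
  let n := P.asIdeal.under (MvPolynomial (Fin d) A)
  haveI : n.LiesOver p.asIdeal := ⟨by rw [Ideal.under_under]; exact P.asIdeal.over_def p.asIdeal⟩
  haveI : Algebra.QuasiFiniteAt (MvPolynomial (Fin d) A) P.asIdeal := hqf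
  letI := Localization.AtPrime.algebraOfLiesOver p.asIdeal P.asIdeal
  letI := Localization.AtPrime.algebraOfLiesOver n P.asIdeal
  letI := Localization.AtPrime.algebraOfLiesOver p.asIdeal n
  haveI : Module.Finite n.ResidueField P.asIdeal.ResidueField := inferInstance
  haveI : Algebra.IsIntegral n.ResidueField P.asIdeal.ResidueField := Algebra.IsIntegral.of_finite _ _
  haveI : Algebra.IsAlgebraic n.ResidueField P.asIdeal.ResidueField := Algebra.IsIntegral.isAlgebraic
  haveI : IsScalarTower p.asIdeal.ResidueField n.ResidueField P.asIdeal.ResidueField :=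
    IsScalarTower.of_algebraMap_eq' (by
      refine Ideal.ResidueField.ringHom_ext (RingHom.ext fun a => ?_)
      simp only [RingHom.comp_apply, ← IsScalarTower.algebraMap_apply])
  haveI : FaithfulSMul p.asIdeal.ResidueField n.ResidueField :=
    (faithfulSMul_iff_algebraMap_injective _ _).mpr (RingHom.injective _)
  haveI : FaithfulSMul n.ResidueField P.asIdeal.ResidueField :=
    (faithfulSMul_iff_algebraMap_injective _ _).mpr (RingHom.injective _)
  -- transcendence degree of `κ(n)`
  have hn : Algebra.trdeg p.asIdeal.ResidueField n.ResidueField ≤ (d : ℕ) := by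
    let t : Fin d → n.ResidueField := fun i =>
      algebraMap (MvPolynomial (Fin d) A) n.ResidueField (MvPolynomial.X i)
    let Kt := IntermediateField.adjoin p.asIdeal.ResidueField (Set.range t)
    have htop : Kt = ⊤ := by
      rw [_root_.eq_top_iff]
      rintro x -
      have hpoly : ∀ a : MvPolynomial (Fin d) A, algebraMap _ n.ResidueField a ∈ Kt := fun a => by
        induction a using MvPolynomial.induction_on with
        | C c =>
          rw [← MvPolynomial.algebraMap_eq, ← IsScalarTower.algebraMap_apply,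
            IsScalarTower.algebraMap_apply A p.asIdeal.ResidueField n.ResidueField]
          exact Kt.algebraMap_mem _
        | add a b ha hb => rw [map_add]; exact Kt.add_mem ha hb
        | mul_X a i ha =>
          rw [map_mul]; exact Kt.mul_mem ha (IntermediateField.subset_adjoin _ _ ⟨i, rfl⟩)
      obtain ⟨a, b, -, rfl⟩ := IsFractionRing.div_surjective (A := MvPolynomial (Fin d) A ⧸ n) x
      obtain ⟨a, rfl⟩ := Ideal.Quotient.mk_surjective a
      obtain ⟨b, rfl⟩ := Ideal.Quotient.mk_surjective b
      rw [← Ideal.Quotient.algebraMap_eq, ← IsScalarTower.algebraMap_apply, ← IsScalarTower.algebraMap_apply]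
      exact Kt.div_mem (hpoly a) (hpoly b)
    haveI : Algebra.IsAlgebraic (Algebra.adjoin p.asIdeal.ResidueField (Set.range t)) n.ResidueField := by
      haveI := IsFractionRing.of_field (Algebra.adjoin p.asIdeal.ResidueField (Set.range t)) n.ResidueField
        (fun x => by
          obtain ⟨a, ha, b, hb, rfl⟩ := IntermediateField.mem_adjoin_iff_div.mp (htop ▸ IntermediateField.mem_top (x := x))
          exact ⟨⟨a, ha⟩, ⟨b, hb⟩, rfl⟩)
      exact IsLocalization.isAlgebraic _ (nonZeroDivisors _)
    refine (Algebra.IsAlgebraic.trdeg_le_cardinalMk p.asIdeal.ResidueField (Set.range t)).trans ?_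
    simpa using Cardinal.mk_range_le_lift (f := t)
  have hP' : Algebra.trdeg p.asIdeal.ResidueField P.asIdeal.ResidueField ≤ (d : ℕ) := by
    rw [← trdeg_add_eq p.asIdeal.ResidueField n.ResidueField (A := P.asIdeal.ResidueField),
      trdeg_eq_zero (R := n.ResidueField) (A := P.asIdeal.ResidueField), add_zero]
    exact hn
  let M₀ := PrimeSpectrum.preimageEquivFiber A D p ⟨P, hP⟩
  haveI := M₀.2
  let L : p.asIdeal.Fiber D →ₐ[p.asIdeal.ResidueField] P.asIdeal.ResidueField :=
    Algebra.TensorProduct.lift (Algebra.ofId _ _) (IsScalarTower.toAlgHom _ _ _) fun _ _ => .all _ _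
  have hker : ∀ a, a ∈ M₀.asIdeal ↔ L a = 0 := fun a => by
    rw [PrimeSpectrum.preimageEquivFiber_apply_asIdeal, RingHom.mem_ker]
    have : (Ideal.ResidueField.mapₐ p.asIdeal P.asIdeal (Algebra.ofId _ _)
        congr($(hP.symm).asIdeal) : p.asIdeal.ResidueField →ₐ[A] P.asIdeal.ResidueField) =
        (Algebra.ofId p.asIdeal.ResidueField P.asIdeal.ResidueField).restrictScalars A :=
      Ideal.ResidueField.algHom_ext (AlgHom.ext fun x => by simp [Algebra.ofId_apply])
    have h2 : ∀ b, Algebra.TensorProduct.lift (Ideal.ResidueField.mapₐ p.asIdeal P.asIdeal (Algebra.ofId _ _)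
        congr($(hP.symm).asIdeal)) (IsScalarTower.toAlgHom A D P.asIdeal.ResidueField)
        (fun _ _ => .all _ _) b = L b := fun b => by
      induction b using TensorProduct.induction_on with
      | zero => simp
      | tmul c e => simp only [L, Algebra.TensorProduct.lift_tmul, this, AlgHom.restrictScalars_apply]
      | add b c hb hc => simp [hb, hc]
    exact Iff.of_eq (congrArg (· = 0) (h2 a))
  let ψ : (p.asIdeal.Fiber D ⧸ M₀.asIdeal) →ₐ[p.asIdeal.ResidueField] P.asIdeal.ResidueField :=
    Ideal.Quotient.liftₐ M₀.asIdeal L fun a ha => (hker a).mp ha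
  have hψ : Function.Injective ψ := by
    rw [injective_iff_map_eq_zero]
    intro a
    obtain ⟨a, rfl⟩ := Ideal.Quotient.mk_surjective a
    intro ha
    exact Ideal.Quotient.eq_zero_iff_mem.mpr ((hker a).mpr ha)
  obtain ⟨s, hs, hst⟩ := exists_trdeg p.asIdeal.ResidueField (p.asIdeal.Fiber D ⧸ M₀.asIdeal)
  have h := (trdeg_le_of_injective (R := p.asIdeal.ResidueField) (A := p.asIdeal.Fiber D ⧸ M₀.asIdeal) (A' := P.asIdeal.ResidueField) ψ hψ).trans hP'
  rw [hst] at h
  rw [hs]
  exact_mod_cast h

end Groth.Agent.Equidim
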