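import Mathlib
import Groth.Agent.Equidim.Semicont

set_option autoImplicit false
set_option backward.isDefEq.respectTransparency false
universe u
open TensorProduct

namespace Groth.Agent.Equidim.Core

variable {A B D : Type u} [CommRing A] [CommRing B] [CommRing D] [Algebra A B] [Algebra A D]

/-- The prime of `D` below a prime of a fibre. -/
noncomputable def pr (p : PrimeSpectrum A) (M : PrimeSpectrum (p.asIdeal.Fiber D)) : PrimeSpectrum D :=
  ((PrimeSpectrum.preimageOrderIsoFiber A D p).symm M).1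

theorem mem_pr {p : PrimeSpectrum A} {M : PrimeSpectrum (p.asIdeal.Fiber D)} {b : D} :
    b ∈ (pr p M).asIdeal ↔ (1 : p.asIdeal.ResidueField) ⊗ₜ[A] b ∈ M.asIdeal := Iff.rfl

theorem pr_under (p : PrimeSpectrum A) (M : PrimeSpectrum (p.asIdeal.Fiber D)) :
    (pr p M).asIdeal.under A = p.asIdeal :=
  congrArg PrimeSpectrum.asIdeal ((PrimeSpectrum.preimageOrderIsoFiber A D p).symm M).2

theorem exists_pr (p : PrimeSpectrum A) (Q : PrimeSpectrum D) (h : Q.asIdeal.under A = p.asIdeal) :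
    ∃ M, pr p M = Q :=
  ⟨PrimeSpectrum.preimageOrderIsoFiber A D p ⟨Q, PrimeSpectrum.ext h⟩,
    congrArg Subtype.val (OrderIso.symm_apply_apply _ _)⟩

theorem pr_strictMono (p : PrimeSpectrum A) : StrictMono (pr (D := D) p) := fun _ _ h =>
  Subtype.coe_lt_coe.mpr ((PrimeSpectrum.preimageOrderIsoFiber A D p).symm.strictMono h)

theorem pr_le_iff {p : PrimeSpectrum A} {M M' : PrimeSpectrum (p.asIdeal.Fiber D)} :
    pr p M ≤ pr p M' ↔ M ≤ M' := (PrimeSpectrum.preimageOrderIsoFiber A D p).symm.le_iff_le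

/-- A maximal ideal above a prime inside a given open. -/
theorem exists_maximal {R : Type u} [CommRing R] [IsJacobsonRing R] (P : PrimeSpectrum R)
    (Ω : Set (PrimeSpectrum R)) (hΩ : IsOpen Ω) (hP : P ∈ Ω) :
    ∃ M : PrimeSpectrum R, M.asIdeal.IsMaximal ∧ P ≤ M ∧ M ∈ Ω := by
  obtain ⟨_, ⟨h, rfl⟩, hPh, hsub⟩ := PrimeSpectrum.isTopologicalBasis_basic_opens.exists_subset_of_mem_open hP hΩ
  have hh : h ∉ P.asIdeal.jacobson := by
    rw [IsJacobsonRing.out inferInstance P.2.isRadical]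
    exact hPh
  rw [Ideal.jacobson, Ideal.mem_sInf] at hh
  push Not at hh
  obtain ⟨J, ⟨hPJ, hJ⟩, hhJ⟩ := hh
  exact ⟨⟨J, hJ.isPrime⟩, hJ, hPJ, hsub hhJ⟩

/-- `dim F/η ≤ height M + dim F/M` for primes `η ≤ M`. -/
theorem dim_le_height_add_quot (K F : Type u) [Field K] [CommRing F] [Algebra K F]
    [Algebra.FiniteType K F] (η M : Ideal F) [η.IsPrime] [M.IsPrime] (hle : η ≤ M) :
    ringKrullDim (F ⧸ η) ≤ (M.height : WithBot ℕ∞) + ringKrullDim (F ⧸ M) := by
  let P : Ideal (F ⧸ η) := M.map (Ideal.Quotient.mk η)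
  haveI : P.IsPrime :=
    Ideal.map_isPrime_of_surjective Ideal.Quotient.mk_surjective (by rw [Ideal.mk_ker]; exact hle)
  have hP : P.comap (Ideal.Quotient.mk η) = M := by
    rw [Ideal.comap_map_of_surjective _ Ideal.Quotient.mk_surjective, ← RingHom.ker_eq_comap_bot,
      Ideal.mk_ker, sup_eq_left.mpr hle]
  refine (ringKrullDim_le_height_add K (F ⧸ η) P).trans (add_le_add (WithBot.coe_le_coe.mpr ?_) ?_)
  · rw [show P.height = Order.height (⟨P, inferInstance⟩ : PrimeSpectrum _) from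
        PrimeSpectrum.height_eq_orderHeight (R := F ⧸ η) ⟨P, inferInstance⟩,
      show M.height = Order.height (⟨M, inferInstance⟩ : PrimeSpectrum _) from
        PrimeSpectrum.height_eq_orderHeight (R := F) ⟨M, inferInstance⟩]
    have h := Order.height_le_height_apply_of_strictMono (PrimeSpectrum.comap (Ideal.Quotient.mk η))
      (fun a b hab => lt_of_le_of_ne (Ideal.comap_mono hab.le) fun e =>
        hab.ne (PrimeSpectrum.comap_injective_of_surjective _ Ideal.Quotient.mk_surjective e))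
      (⟨P, inferInstance⟩ : PrimeSpectrum (F ⧸ η))
    rwa [show PrimeSpectrum.comap (Ideal.Quotient.mk η) ⟨P, inferInstance⟩ = (⟨M, inferInstance⟩ : PrimeSpectrum F)
      from PrimeSpectrum.ext hP] at h
  · exact (ringKrullDim_eq_of_ringEquiv (DoubleQuot.quotQuotEquivQuotOfLE hle)).le

section
variable [Algebra.FiniteType A D]

/-- Parameters quasi-finite around a closed point of a fibre. -/
theorem exists_params (p : PrimeSpectrum A) (M : PrimeSpectrum (p.asIdeal.Fiber D))
    (hM : M.asIdeal.IsMaximal) (d : ℕ) (hd : M.asIdeal.height = d) :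
    ∃ b : Fin d → D,
      letI := (MvPolynomial.aeval b : MvPolynomial (Fin d) A →ₐ[A] D).toRingHom.toAlgebra
      ∃ r : D, r ∉ (pr p M).asIdeal ∧
        ∀ P : PrimeSpectrum D, r ∉ P.asIdeal → Algebra.QuasiFiniteAt (MvPolynomial (Fin d) A) P.asIdeal := by
  classical
  haveI : IsNoetherianRing (p.asIdeal.Fiber D) :=
    Algebra.FiniteType.isNoetherianRing p.asIdeal.ResidueField _
  obtain ⟨S, hS, hcard⟩ := M.asIdeal.exists_finset_card_eq_height_of_isNoetherianRing
  rw [hd, Nat.cast_inj] at hcard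
  let σ : Fin d ≃ S := (S.equivFinOfCardEq hcard).symm
  choose a ha b hb using fun i => Ideal.Fiber.exists_smul_eq_one_tmul (p := p.asIdeal) ((σ i : S) : p.asIdeal.Fiber D)
  have hunit : ∀ i, IsUnit (algebraMap A (p.asIdeal.Fiber D) (a i)) := fun i => by
    rw [IsScalarTower.algebraMap_apply A p.asIdeal.ResidueField]
    exact (isUnit_iff_ne_zero.mpr fun h => ha i (Ideal.algebraMap_residueField_eq_zero.mp h)).map _
  have hmem : ∀ (i : Fin d) (M' : PrimeSpectrum (p.asIdeal.Fiber D)),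
      b i ∈ (pr p M').asIdeal ↔ ((σ i : S) : p.asIdeal.Fiber D) ∈ M'.asIdeal := fun i M' => by
    rw [mem_pr, ← hb i, Algebra.smul_def, Ideal.unit_mul_mem_iff_mem _ (hunit i)]
  haveI hQ := (pr p M).2
  letI := (MvPolynomial.aeval b : MvPolynomial (Fin d) A →ₐ[A] D).toRingHom.toAlgebra
  haveI : IsScalarTower A (MvPolynomial (Fin d) A) D :=
    IsScalarTower.of_algebraMap_eq fun c => ((MvPolynomial.aeval b).commutes c).symm
  haveI : Algebra.FiniteType (MvPolynomial (Fin d) A) D :=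
    Algebra.FiniteType.of_restrictScalars_finiteType A _ _
  haveI : Algebra.QuasiFiniteAt (MvPolynomial (Fin d) A) (pr p M).asIdeal := by
    refine quasiFiniteAt_of_isolated b p.asIdeal _ (pr_under p M)
      (fun i => (hmem i M).mpr (hS.1.2 (Ideal.subset_span (σ i).2))) ?_ ?_
    · intro Q' hQ' hle hp' hg
      obtain ⟨M', hM'⟩ := exists_pr p ⟨Q', hQ'⟩ hp'
      have hle' : M' ≤ M := pr_le_iff.mp (by rw [hM']; exact hle)
      have : M' = M := le_antisymm hle' (hS.2 ⟨M'.2, Ideal.span_le.mpr fun s hs => by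
        have h1 := (hmem (σ.symm ⟨s, hs⟩) M').mp (by rw [hM']; exact hg _)
        rwa [Equiv.apply_symm_apply] at h1⟩ hle')
      subst this
      exact congrArg PrimeSpectrum.asIdeal hM'.symm
    · intro Q' hQ' hle hp'
      obtain ⟨M', hM'⟩ := exists_pr p ⟨Q', hQ'⟩ hp'
      have hle' : M ≤ M' := pr_le_iff.mp (by rw [hM']; exact hle)
      have : M' = M := PrimeSpectrum.ext (hM.eq_of_le M'.2.ne_top hle').symm
      subst this
      exact congrArg PrimeSpectrum.asIdeal hM'.symm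
  obtain ⟨r, hr, H⟩ := exists_qf_nbhd (R := MvPolynomial (Fin d) A) (pr p M).asIdeal
  exact ⟨b, r, hr, H⟩

/-- Around a closed point of a fibre the fibres have dimension bounded by its height. -/
theorem exists_nbhd (p : PrimeSpectrum A) (M : PrimeSpectrum (p.asIdeal.Fiber D))
    (hM : M.asIdeal.IsMaximal) (d : ℕ) (hd : M.asIdeal.height = d) :
    ∃ r : D, r ∉ (pr p M).asIdeal ∧ ∀ (p' : PrimeSpectrum A) (M' : PrimeSpectrum (p'.asIdeal.Fiber D)),
      r ∉ (pr p' M').asIdeal → ringKrullDim (p'.asIdeal.Fiber D ⧸ M'.asIdeal) ≤ (d : ℕ) := by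
  obtain ⟨b, r, hr, H⟩ := exists_params p M hM d hd
  exact ⟨r, hr, fun p' M' h => dim_le_of_qf b p' M' (H (pr p' M') h)⟩

end

section
variable [IsNoetherianRing A] [Algebra.FiniteType A B] [Algebra.FiniteType A D] [IsDomain D]

set_option maxHeartbeats 1000000 in
/-- The dimension formula bound at a closed point of a fibre of a closed integral subscheme. -/
theorem height_bound (π : B →ₐ[A] D) (hπ : Function.Surjective π) (q₀ : PrimeSpectrum A)
    (hdom : ∀ m ∈ minimalPrimes B, m.under A = q₀.asIdeal) (e : ℕ)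
    (hfib : ∀ (p : PrimeSpectrum A) (η : Ideal (p.asIdeal.Fiber B)), η ∈ minimalPrimes _ →
      (e : WithBot ℕ∞) ≤ ringKrullDim (p.asIdeal.Fiber B ⧸ η))
    (n : ℕ) (hn : (RingHom.ker π).height ≤ n)
    (p : PrimeSpectrum A) (M : PrimeSpectrum (p.asIdeal.Fiber D)) (hM : M.asIdeal.IsMaximal)
    (d : ℕ) (hd : M.asIdeal.height = d) :
    e ≤ n + d ∧ (n + d ≤ e → (RingHom.ker π).height = n ∧ (RingHom.ker π).under A = q₀.asIdeal) := by
  haveI : IsNoetherianRing B := Algebra.FiniteType.isNoetherianRing A B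
  haveI : (RingHom.ker π).IsPrime := RingHom.ker_isPrime π
  let P : PrimeSpectrum B := ⟨RingHom.ker π, inferInstance⟩
  obtain ⟨r, hr, H⟩ := exists_nbhd p M hM d hd
  let q : PrimeSpectrum A := PrimeSpectrum.comap (algebraMap A D) ⟨⊥, Ideal.isPrime_bot⟩
  obtain ⟨M₀, hM₀⟩ := exists_pr q (⟨⊥, Ideal.isPrime_bot⟩ : PrimeSpectrum D) rfl
  have hdim := H q M₀ (by rw [hM₀]; exact fun h => hr (by rw [(Ideal.mem_bot.mp h)]; exact Ideal.zero_mem _))
  let φ : q.asIdeal.Fiber B →ₐ[A] q.asIdeal.Fiber D := Algebra.TensorProduct.map (AlgHom.id _ _) π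
  have hφ : Function.Surjective φ.toRingHom :=
    TensorProduct.map_surjective Function.surjective_id hπ
  let MP : PrimeSpectrum (q.asIdeal.Fiber B) := PrimeSpectrum.comap φ.toRingHom M₀
  haveI := MP.2
  have hMP : pr q MP = P := by
    refine PrimeSpectrum.ext (Ideal.ext fun b => ?_)
    show φ (1 ⊗ₜ b) ∈ M₀.asIdeal ↔ π b = 0
    rw [show φ (1 ⊗ₜ b) = 1 ⊗ₜ π b from Algebra.TensorProduct.map_tmul _ _ _ _, ← mem_pr, hM₀,
      Ideal.mem_bot]
  have hdimMP : ringKrullDim (q.asIdeal.Fiber B ⧸ MP.asIdeal) ≤ (d : ℕ) := by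
    refine le_trans (ringKrullDim_eq_of_ringEquiv ?_).le hdim
    refine (Ideal.quotEquivOfEq ?_).trans (RingHom.quotientKerEquivOfSurjective
      (f := (Ideal.Quotient.mk M₀.asIdeal).comp φ.toRingHom) (Ideal.Quotient.mk_surjective.comp hφ))
    rw [← RingHom.comap_ker, Ideal.mk_ker]
    rfl
  haveI : IsNoetherianRing (q.asIdeal.Fiber B) :=
    Algebra.FiniteType.isNoetherianRing q.asIdeal.ResidueField _
  obtain ⟨η, hη, hηle⟩ := Ideal.exists_minimalPrimes_le (bot_le (a := MP.asIdeal))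
  haveI := hη.1.1
  have h1 := dim_le_height_add_quot q.asIdeal.ResidueField (q.asIdeal.Fiber B) η MP.asIdeal hηle
  obtain ⟨m, hm⟩ := ENat.ne_top_iff_exists.mp (MP.asIdeal.height_ne_top_of_isPrime)
  obtain ⟨h, hh⟩ := ENat.ne_top_iff_exists.mp (P.asIdeal.height_ne_top_of_isPrime)
  have hem : e ≤ m + d := by
    have := ((hfib q η hη).trans h1).trans (add_le_add le_rfl hdimMP)
    rw [← hm] at this
    exact_mod_cast this
  have hmh : m ≤ h ∧ (q ≠ q₀ → m + 1 ≤ h) := by
    obtain ⟨l, hl, hlen⟩ := MP.asIdeal.exists_ltSeries_length_eq_height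
    rw [← hm, Nat.cast_inj] at hlen
    let l' : LTSeries (PrimeSpectrum B) := l.map (pr q) (pr_strictMono q)
    have hlast : l'.last = P := by rw [← hMP]; exact congrArg (pr q) hl
    have hlen' : l'.length = m := hlen
    refine ⟨?_, fun hne => ?_⟩
    · have h3 := Order.length_le_height (p := l') (x := P) hlast.le
      rw [← show P.asIdeal.height = Order.height P from PrimeSpectrum.height_eq_orderHeight P, ← hh, Nat.cast_le] at h3
      omega
    · obtain ⟨m₀, hm₀, hle⟩ := Ideal.exists_minimalPrimes_le (bot_le (a := l'.head.asIdeal))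
      have hlt : (⟨m₀, hm₀.1.1⟩ : PrimeSpectrum B) < l'.head := by
        refine lt_of_le_of_ne hle fun he => hne (PrimeSpectrum.ext ?_)
        have he' : m₀ = l'.head.asIdeal := congrArg PrimeSpectrum.asIdeal he
        rw [← hdom m₀ hm₀, he']
        exact (pr_under q (l 0)).symm
      have h3 := Order.length_le_height (p := l'.cons _ hlt) (x := P) (by rw [RelSeries.last_cons]; exact hlast.le)
      rw [← show P.asIdeal.height = Order.height P from PrimeSpectrum.height_eq_orderHeight P, ← hh, Nat.cast_le,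
        RelSeries.cons_length] at h3
      omega
  have hhn : h ≤ n := by
    have : (h : ℕ∞) ≤ n := hh.le.trans hn
    exact_mod_cast this
  refine ⟨by omega, fun hle => ⟨?_, ?_⟩⟩
  · rw [show (RingHom.ker π).height = P.asIdeal.height from rfl, ← hh]
    exact_mod_cast (by omega : h = n)
  · by_contra hne
    have hq : q ≠ q₀ := fun he => hne (by
      rw [← he]
      show (RingHom.ker π).comap (algebraMap A B) = (⊥ : Ideal D).comap (algebraMap A D)
      rw [← π.comp_algebraMap, ← Ideal.comap_comap]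
      rfl)
    have := hmh.2 hq
    omega

set_option maxHeartbeats 1000000 in
/-- Each component of a fibre contains a chain of the expected length inside a given open. -/
theorem exists_chain (π : B →ₐ[A] D) (hπ : Function.Surjective π) (q₀ : PrimeSpectrum A)
    (hdom : ∀ m ∈ minimalPrimes B, m.under A = q₀.asIdeal) (e : ℕ)
    (hfib : ∀ (p : PrimeSpectrum A) (η : Ideal (p.asIdeal.Fiber B)), η ∈ minimalPrimes _ →
      (e : WithBot ℕ∞) ≤ ringKrullDim (p.asIdeal.Fiber B ⧸ η))
    (n : ℕ) (hn : (RingHom.ker π).height ≤ n) (p : PrimeSpectrum A)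
    (η : PrimeSpectrum (p.asIdeal.Fiber D)) (hη : η.asIdeal ∈ minimalPrimes _)
    (Ω : Set (PrimeSpectrum (p.asIdeal.Fiber D))) (hΩ : IsOpen Ω) (hηΩ : η ∈ Ω) :
    ∃ l : LTSeries (PrimeSpectrum (p.asIdeal.Fiber D)),
      e ≤ n + l.length ∧ ∀ i, η ≤ l i ∧ l i ∈ Ω := by
  haveI : IsNoetherianRing (p.asIdeal.Fiber D) :=
    Algebra.FiniteType.isNoetherianRing p.asIdeal.ResidueField _
  haveI : IsJacobsonRing (p.asIdeal.Fiber D) := isJacobsonRing_of_finiteType (A := p.asIdeal.ResidueField)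
  let C : Set (PrimeSpectrum (p.asIdeal.Fiber D)) :=
    ⋃ m ∈ {m : PrimeSpectrum (p.asIdeal.Fiber D) | m.asIdeal ∈ minimalPrimes _ ∧ m ≠ η}, closure {m}
  have hfin : {m : PrimeSpectrum (p.asIdeal.Fiber D) | m.asIdeal ∈ minimalPrimes _ ∧ m ≠ η}.Finite :=
    ((minimalPrimes.finite_of_isNoetherianRing _).preimage
      (fun a _ b _ h => PrimeSpectrum.ext h)).subset fun m hm => hm.1
  have hC : IsClosed C := hfin.isClosed_biUnion fun _ _ => isClosed_closure
  have hηC : η ∉ C := fun h => by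
    simp only [C, Set.mem_iUnion] at h
    obtain ⟨m, ⟨hm, hne⟩, hmem⟩ := h
    have hle : m ≤ η := (PrimeSpectrum.le_iff_specializes _ _).mpr (specializes_iff_mem_closure.mpr hmem)
    exact hne (le_antisymm hle (hη.2 ⟨m.2, bot_le⟩ hle))
  obtain ⟨M, hM, hηM, hMΩ, hMC⟩ := exists_maximal η (Ω ∩ Cᶜ) (hΩ.inter hC.isOpen_compl) ⟨hηΩ, hηC⟩
  obtain ⟨d, hd⟩ := ENat.ne_top_iff_exists.mp (M.asIdeal.height_ne_top_of_isPrime)
  obtain ⟨l, hl, hlen⟩ := M.asIdeal.exists_ltSeries_length_eq_height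
  rw [← hd, Nat.cast_inj] at hlen
  refine ⟨l, hlen ▸ (height_bound π hπ q₀ hdom e hfib n hn p M hM d hd.symm).1, fun i => ?_⟩
  have hiM : l i ≤ M := (l.monotone (Fin.le_last i)).trans hl.le
  refine ⟨?_, ((PrimeSpectrum.le_iff_specializes _ _).mp hiM).mem_open hΩ hMΩ⟩
  obtain ⟨m, hm, hmle⟩ := Ideal.exists_minimalPrimes_le (bot_le (a := (l i).asIdeal))
  let m' : PrimeSpectrum (p.asIdeal.Fiber D) := ⟨m, hm.1.1⟩
  by_cases hmη : m' = η
  · exact hmη ▸ hmle
  · refine absurd ?_ hMC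
    simp only [C, Set.mem_iUnion]
    exact ⟨m', ⟨hm, hmη⟩,
      ((PrimeSpectrum.le_iff_specializes m' M).mp (le_trans (show m' ≤ l i from hmle) hiM)).mem_closure⟩

end

end Groth.Agent.Equidim.Core
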