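import Mathlib
import Groth.Prelude.Def_Flat
import Groth.Prelude.Def_EGA43
import Groth.Agent.Equidim.Core
import Groth.Agent.GenDim.Component
import Groth.Agent.TopDim.Basic

set_option autoImplicit false
set_option backward.isDefEq.respectTransparency false
universe u
open CategoryTheory AlgebraicGeometry TopologicalSpace Topology
open Groth.Agent.Equidim.Core

namespace Groth.Agent.Equidim

/-- A chain of specializations bounds the dimension from below. -/
theorem le_dim_of_chain {S : Type u} [TopologicalSpace S] [T0Space S] {n : ℕ} (z : Fin (n + 1) → S)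
    (hz : ∀ i : Fin n, z i.castSucc ⤳ z i.succ ∧ z i.castSucc ≠ z i.succ) :
    (n : WithBot ℕ∞) ≤ topologicalKrullDim S := by
  refine TopDim.Basic.length_le (X := S) ⟨n, fun i => ⟨closure {z i.rev}, isIrreducible_singleton.closure,
    isClosed_closure⟩, fun i => ?_⟩
  obtain ⟨h1, h2⟩ := hz i.rev
  rw [← Fin.rev_succ, ← Fin.rev_castSucc] at h1 h2
  show (_ : IrreducibleCloseds S) < _
  refine lt_of_le_of_ne (closure_minimal (Set.singleton_subset_iff.mpr h1.mem_closure) isClosed_closure) fun h => h2 ?_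
  exact ((inseparable_iff_closure_eq.mpr (congrArg IrreducibleCloseds.carrier h)).eq).symm

/-- Comparison of dimensions along an inducing map into the range of an embedding. -/
theorem dim_le_of_range {S T X : Type u} [TopologicalSpace S] [TopologicalSpace T] [TopologicalSpace X]
    {φ : S → X} (hφ : IsInducing φ) {g : T → X} (hg : IsEmbedding g) (h : ∀ s, φ s ∈ Set.range g) :
    topologicalKrullDim S ≤ topologicalKrullDim T := by
  refine IsInducing.topologicalKrullDim_le (f := fun s => hg.toHomeomorph.symm ⟨φ s, h s⟩) ?_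
  exact hg.toHomeomorph.symm.isInducing.comp (hφ.codRestrict h)

/-- Dimension bound by a quotient of a ring whose spectrum embeds. -/
theorem dim_le_quot {F S X : Type u} [CommRing F] [TopologicalSpace S] [TopologicalSpace X]
    {φ : S → X} (hφ : IsInducing φ) {ε : PrimeSpectrum F → X} (hε : IsEmbedding ε) (I : Ideal F)
    (h : ∀ s, ∃ M : PrimeSpectrum F, I ≤ M.asIdeal ∧ ε M = φ s) :
    topologicalKrullDim S ≤ ringKrullDim (F ⧸ I) := by
  rw [← PrimeSpectrum.topologicalKrullDim_eq_ringKrullDim]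
  refine dim_le_of_range hφ (hε.comp
    (PrimeSpectrum.isClosedEmbedding_comap_of_surjective _ _ (Ideal.Quotient.mk_surjective (I := I))).isEmbedding) fun s => ?_
  obtain ⟨M, hM, hMs⟩ := h s
  obtain ⟨Q, rfl⟩ : M ∈ Set.range (PrimeSpectrum.comap (Ideal.Quotient.mk I)) := by
    rw [range_comap_of_surjective _ _ Ideal.Quotient.mk_surjective, Ideal.mk_ker]; exact hM
  exact ⟨Q, hMs⟩

/-- A point maximal under generization is the generic point of a component. -/
theorem closure_mem_irreducibleComponents {S : Type u} [TopologicalSpace S] [QuasiSober S] (g : S)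
    (h : ∀ g' : S, g' ⤳ g → g' = g) : closure ({g} : Set S) ∈ irreducibleComponents S := by
  refine ⟨isIrreducible_singleton.closure, fun W hW hle => ?_⟩
  have h1 : hW.genericPoint ⤳ g := specializes_iff_mem_closure.mpr (by
    rw [hW.genericPoint_closure_eq]; exact subset_closure (hle (subset_closure rfl)))
  refine subset_closure.trans ?_
  rw [← hW.genericPoint_closure_eq, h _ h1]

section chart

variable {X Y : Scheme.{u}} (f : X ⟶ Y) {U₀ : Y.Opens} (hU₀ : IsAffineOpen U₀) {V : X.Opens}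
  (hV : IsAffineOpen V) (hVU : V ≤ f ⁻¹ᵁ U₀) [Algebra Γ(Y, U₀) Γ(X, V)]
  (halg : algebraMap Γ(Y, U₀) Γ(X, V) = (f.appLE U₀ V hVU).hom)
  {D : Type u} [CommRing D] [Algebra Γ(Y, U₀) D] (π : Γ(X, V) →ₐ[Γ(Y, U₀)] D)

/-- The point of `X` attached to a prime of a fibre of `Spec D`. -/
noncomputable def ch (p : PrimeSpectrum Γ(Y, U₀)) (M : PrimeSpectrum (p.asIdeal.Fiber D)) : X :=
  hV.fromSpec (PrimeSpectrum.comap π.toRingHom (pr p M))

include halg in
theorem f_fromSpec (Q : PrimeSpectrum Γ(X, V)) :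
    f (hV.fromSpec Q) = hU₀.fromSpec (PrimeSpectrum.comap (algebraMap Γ(Y, U₀) Γ(X, V)) Q) := by
  show (hV.fromSpec ≫ f) Q = _
  rw [← IsAffineOpen.SpecMap_appLE_fromSpec f hU₀ hV hVU, halg]
  rfl

theorem ch_isEmbedding (hπ : Function.Surjective π) (p : PrimeSpectrum Γ(Y, U₀)) :
    IsEmbedding (ch hV π p) :=
  hV.fromSpec.isOpenEmbedding.isEmbedding.comp
    (((PrimeSpectrum.isClosedEmbedding_comap_of_surjective _ _ hπ).isEmbedding).comp
      (IsEmbedding.subtypeVal.comp (PrimeSpectrum.preimageHomeomorphFiber Γ(Y, U₀) D p).symm.isEmbedding))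

theorem ch_specializes (hπ : Function.Surjective π) (p : PrimeSpectrum Γ(Y, U₀))
    (M M' : PrimeSpectrum (p.asIdeal.Fiber D)) : ch hV π p M ⤳ ch hV π p M' ↔ M ≤ M' := by
  rw [(ch_isEmbedding hV π hπ p).isInducing.specializes_iff, PrimeSpectrum.le_iff_specializes]

include halg in
theorem f_ch (p : PrimeSpectrum Γ(Y, U₀)) (M : PrimeSpectrum (p.asIdeal.Fiber D)) :
    f (ch hV π p M) = hU₀.fromSpec p := by
  rw [ch, f_fromSpec f hU₀ hV hVU halg]
  refine congrArg hU₀.fromSpec (PrimeSpectrum.ext ?_)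
  show ((pr p M).asIdeal.comap π.toRingHom).comap (algebraMap Γ(Y, U₀) Γ(X, V)) = p.asIdeal
  rw [Ideal.comap_comap, show π.toRingHom.comp (algebraMap Γ(Y, U₀) Γ(X, V)) = algebraMap Γ(Y, U₀) D from π.comp_algebraMap]
  exact pr_under p M

include halg in
theorem exists_ch (hπ : Function.Surjective π) (p : PrimeSpectrum Γ(Y, U₀)) (Q : PrimeSpectrum Γ(X, V))
    (hQ : RingHom.ker π.toRingHom ≤ Q.asIdeal) (hfQ : f (hV.fromSpec Q) = hU₀.fromSpec p) :
    ∃ M, ch hV π p M = hV.fromSpec Q := by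
  obtain ⟨Q', rfl⟩ : Q ∈ Set.range (PrimeSpectrum.comap π.toRingHom) := by
    rw [range_comap_of_surjective _ _ hπ]; exact hQ
  rw [f_fromSpec f hU₀ hV hVU halg] at hfQ
  obtain ⟨M, hM⟩ := exists_pr p Q' (by
    have h := congrArg PrimeSpectrum.asIdeal (hU₀.fromSpec.isOpenEmbedding.injective hfQ)
    rw [← h]
    show _ = (Q'.asIdeal.comap π.toRingHom).comap _
    rw [Ideal.comap_comap, show π.toRingHom.comp (algebraMap Γ(Y, U₀) Γ(X, V)) = algebraMap Γ(Y, U₀) D from π.comp_algebraMap])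
  exact ⟨M, by rw [ch, hM]⟩

end chart

/-- The dimension of a space covered by components of dimension at most `c`. -/
theorem dim_le_of_components {S : Type u} [TopologicalSpace S] {c : WithBot ℕ∞}
    (h : ∀ Z ∈ irreducibleComponents S, topologicalKrullDim Z ≤ c) : topologicalKrullDim S ≤ c := by
  rw [TopDim.Basic.dim_eq_of_closed_cover (fun Z : irreducibleComponents S => (Z : Set S)) fun Z => by
    obtain ⟨W, hW, hWsub⟩ := exists_preirreducible (s := (Z : Set S)) Z.isIrreducible.isPreirreducible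
    exact ⟨⟨W, ⟨⟨Z.isIrreducible.nonempty.mono hWsub.1, hW⟩, fun W' hW' hle => (hWsub.2 W' hW'.2 hle).le⟩⟩, hWsub.1⟩]
  exact iSup_le fun Z => h _ Z.2

/-- Every component of every fibre of `Z` near the chosen open has dimension `d`. -/
def Good {X Y : Scheme.{u}} (f : X ⟶ Y) (Z : Set X) (O : X.Opens) (d : ℕ) : Prop :=
  ∀ O' : X.Opens, O' ≤ O → ∀ z ∈ Z, z ∈ O' → (∀ z' ∈ Z, z' ∈ O' → f z' = f z → z' ⤳ z → z' = z) →
    topologicalKrullDim ↥(closure ({z} : Set X) ∩ (O' : Set X) ∩ f ⁻¹' {f z}) = (d : ℕ)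

set_option maxHeartbeats 1600000 in
/-- The dimension formula for an irreducible closed subset through a point of equidimensionality. -/
theorem main {X Y : Scheme.{u}} [IrreducibleSpace Y] [IsLocallyNoetherian Y] (f : X ⟶ Y)
    [LocallyOfFiniteType f] (x : X) (hf : EGA43.IsEquidimAt f x) (ξ : X) (Z : Set X)
    (hξ : closure ({ξ} : Set X) = Z) (hx : x ∈ Z) (n : ℕ)
    (hcodim : ringKrullDim (X.presheaf.stalk ξ) ≤ (n : ℕ))
    (hdim : FlatMor.localDim ↥(Z ∩ f ⁻¹' {f x}) ⟨x, ⟨hx, rfl⟩⟩ + n ≤ FlatMor.fibreDimAt f x) :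
    ringKrullDim (X.presheaf.stalk ξ) = (n : ℕ) ∧ f ξ = genericPoint Y ∧
      FlatMor.localDim ↥(Z ∩ f ⁻¹' {f x}) ⟨x, ⟨hx, rfl⟩⟩ + n = FlatMor.fibreDimAt f x ∧
      ∃ (d : ℕ) (O : X.Opens), x ∈ O ∧ FlatMor.fibreDimAt f x = ((d + n : ℕ) : WithBot ℕ∞) ∧ Good f Z O d := by
  subst hξ
  obtain ⟨e, U, hxU, hcomp, hfibU⟩ := hf
  haveI : IsLocallyNoetherian X := LocallyOfFiniteType.isLocallyNoetherian f
  obtain ⟨U₀, hU₀, hyU₀, -⟩ := exists_isAffineOpen_mem_and_subset (X := Y) (U := ⊤) (x := f x) trivial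
  obtain ⟨V, hV, hxV, hVsub⟩ :=
    exists_isAffineOpen_mem_and_subset (X := X) (U := U ⊓ f ⁻¹ᵁ U₀) (x := x) ⟨hxU, hyU₀⟩
  have hVU : V ≤ f ⁻¹ᵁ U₀ := fun v hv => (hVsub hv).2
  have hVU' : V ≤ U := fun v hv => (hVsub hv).1
  letI : Algebra Γ(Y, U₀) Γ(X, V) := (f.appLE U₀ V hVU).hom.toAlgebra
  have halg : algebraMap Γ(Y, U₀) Γ(X, V) = (f.appLE U₀ V hVU).hom := rfl
  haveI : IsNoetherianRing Γ(Y, U₀) := IsLocallyNoetherian.component_noetherian ⟨U₀, hU₀⟩
  haveI : Algebra.FiniteType Γ(Y, U₀) Γ(X, V) := LocallyOfFiniteType.finiteType_appLE f hU₀ hV hVU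
  let q₀ : PrimeSpectrum Γ(Y, U₀) := hU₀.primeIdealOf ⟨genericPoint Y,
    ((genericPoint_spec Y).specializes (Set.mem_univ _)).mem_open U₀.isOpen hyU₀⟩
  have hq₀ : hU₀.fromSpec q₀ = genericPoint Y := hU₀.fromSpec_primeIdealOf _
  -- minimal primes of the chart lie over the generic point
  have hdom : ∀ m ∈ minimalPrimes Γ(X, V), m.under Γ(Y, U₀) = q₀.asIdeal := by
    intro m hm
    let m' : PrimeSpectrum Γ(X, V) := ⟨m, hm.1.1⟩
    let v := hV.fromSpec m'
    have hvV : v ∈ V := hV.range_fromSpec.subset ⟨_, rfl⟩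
    let vU : (U : Scheme.{u}) := (⟨v, hVU' hvV⟩ : U)
    have hvmax : ∀ g' : (U : Scheme.{u}), g' ⤳ vU → g' = vU := fun g' hg' => by
      have h1 : U.ι g' ⤳ v := hg'.map U.ι.continuous
      obtain ⟨Q, hQ⟩ := hV.range_fromSpec.superset (h1.mem_open V.isOpen hvV)
      let Q' : PrimeSpectrum Γ(X, V) := Q
      have hle : Q' ≤ m' := (PrimeSpectrum.le_iff_specializes _ _).mpr
        (hV.fromSpec.isOpenEmbedding.isInducing.specializes_iff.mp (by rw [hQ]; exact h1))
      refine U.ι.isOpenEmbedding.injective ?_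
      rw [← hQ]
      exact congrArg _ (show Q' = m' from le_antisymm hle (hm.2 ⟨Q'.2, bot_le⟩ hle))
    obtain ⟨W, hW, -, hWc⟩ := hcomp _ (closure_mem_irreducibleComponents vU hvmax)
    rw [irreducibleComponents_eq_singleton, Set.mem_singleton_iff] at hW
    have h2 : IsGenericPoint (f v) (Set.univ : Set Y) := by
      refine Set.eq_univ_of_univ_subset ?_
      rw [← hW, ← hWc]
      refine closure_minimal ((image_closure_subset_closure_image (U.ι ≫ f).continuous).trans ?_) isClosed_closure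
      rw [Set.image_singleton]
      rfl
    have h3 : hU₀.fromSpec (PrimeSpectrum.comap (algebraMap Γ(Y, U₀) Γ(X, V)) m') = hU₀.fromSpec q₀ := by
      rw [← f_fromSpec f hU₀ hV hVU halg, hq₀]
      exact IsGenericPoint.eq h2 (genericPoint_spec Y)
    exact congrArg PrimeSpectrum.asIdeal (hU₀.fromSpec.isOpenEmbedding.injective h3)
  -- the fibres of `U`
  let ψ : ∀ u : (U : Scheme.{u}), ↥((U.ι ≫ f).fiber ((U.ι ≫ f) u)) → X :=
    fun u g => U.ι ((U.ι ≫ f).fiberι _ g)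
  have hψ : ∀ u, IsEmbedding (ψ u) := fun u =>
    U.ι.isOpenEmbedding.isEmbedding.comp ((U.ι ≫ f).fiberι _).isEmbedding
  have hψr : ∀ u (z : X), z ∈ U → f z = (U.ι ≫ f) u → z ∈ Set.range (ψ u) := fun u z hz hfz => by
    obtain ⟨g, hg⟩ : (⟨z, hz⟩ : U) ∈ Set.range ((U.ι ≫ f).fiberι ((U.ι ≫ f) u)) := by
      rw [(U.ι ≫ f).range_fiberι]; exact hfz
    exact ⟨g, congrArg U.ι hg⟩
  have hψf : ∀ u g, f (ψ u g) = (U.ι ≫ f) u := fun u g => by
    have h : (U.ι ≫ f).fiberι ((U.ι ≫ f) u) g ∈ (U.ι ≫ f) ⁻¹' {(U.ι ≫ f) u} := by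
      rw [← (U.ι ≫ f).range_fiberι]; exact ⟨g, rfl⟩
    exact h
  let πB := AlgHom.id Γ(Y, U₀) Γ(X, V)
  have hfib : ∀ (p : PrimeSpectrum Γ(Y, U₀)) (η : Ideal (p.asIdeal.Fiber Γ(X, V))),
      η ∈ minimalPrimes _ → (e : WithBot ℕ∞) ≤ ringKrullDim (p.asIdeal.Fiber Γ(X, V) ⧸ η) := by
    intro p η hη
    let η' : PrimeSpectrum (p.asIdeal.Fiber Γ(X, V)) := ⟨η, hη.1.1⟩
    let z₀ := ch hV πB p η'
    have hz₀V : z₀ ∈ V := hV.range_fromSpec.subset ⟨_, rfl⟩
    let u : (U : Scheme.{u}) := (⟨z₀, hVU' hz₀V⟩ : U)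
    have hu : (U.ι ≫ f) u = hU₀.fromSpec p := f_ch f hU₀ hV hVU halg πB p η'
    obtain ⟨g, hg⟩ := hψr u z₀ (hVU' hz₀V) (f_ch f hU₀ hV hVU halg πB p η' |>.trans hu.symm)
    have hmem : ∀ g', ψ u g' ∈ V → ψ u g' ∈ Set.range (ch hV πB p) := fun g' hg' => by
      obtain ⟨Q, hQ⟩ := hV.range_fromSpec.superset hg'
      obtain ⟨M, hM⟩ := exists_ch f hU₀ hV hVU halg πB Function.surjective_id p Q
        (fun a ha => by simp only [πB] at ha; rw [(show a = 0 from ha)]; exact Ideal.zero_mem _)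
        (by rw [hQ, hψf]; exact hu)
      exact ⟨M, hM.trans hQ⟩
    have hgmax : ∀ g', g' ⤳ g → g' = g := fun g' hg' => by
      have h1 : ψ u g' ⤳ z₀ := hg ▸ hg'.map (hψ u).continuous
      obtain ⟨M, hM⟩ := hmem g' (h1.mem_open V.isOpen hz₀V)
      have hle : M ≤ η' := (ch_specializes hV πB Function.surjective_id p M η').mp (by rw [hM]; exact h1)
      refine (hψ u).injective ?_
      rw [hg, ← hM, le_antisymm hle (hη.2 ⟨M.2, bot_le⟩ hle)]
    haveI : LocallyOfFiniteType ((U.ι ≫ f).fiberToSpecResidueField ((U.ι ≫ f) u)) :=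
      MorphismProperty.pullback_snd (P := @LocallyOfFiniteType) _ _ inferInstance
    have hZc := closure_mem_irreducibleComponents g hgmax
    rw [← hfibU u _ hZc]
    let O : Opens ↥((U.ι ≫ f).fiber ((U.ι ≫ f) u)) := ⟨ψ u ⁻¹' V, V.isOpen.preimage (hψ u).continuous⟩
    have hgO : ψ u g ∈ V := hg ▸ hz₀V
    refine (GenDim.dim_le_inter ((U.ι ≫ f).fiberToSpecResidueField _) _ hZc.1 isClosed_closure O g
      (subset_closure rfl) hgO).trans ?_
    refine dim_le_quot (φ := fun s : ↥(closure ({g} : Set _) ∩ (O : Set ↥((U.ι ≫ f).fiber ((U.ι ≫ f) u)))) => ψ u s.1) ((hψ u).isInducing.comp IsInducing.subtypeVal)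
      (ch_isEmbedding hV πB Function.surjective_id p) η fun s => ?_
    obtain ⟨M, hM⟩ := hmem s.1 s.2.2
    refine ⟨M, (ch_specializes hV πB Function.surjective_id p η' M).mp ?_, hM⟩
    rw [hM, show ch hV πB p η' = ψ u g from hg.symm]
    exact (specializes_iff_mem_closure.mpr s.2.1).map (hψ u).continuous
  -- the dimension of the fibre at `x`
  have hfibx : FlatMor.fibreDimAt f x ≤ (e : ℕ) := by
    let O : Opens ↥(f.fiber (f x)) := ⟨f.fiberι (f x) ⁻¹' U, U.isOpen.preimage (f.fiberι (f x)).continuous⟩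
    have hxO : f.asFiber x ∈ O := by
      show f.fiberι (f x) (f.asFiber x) ∈ U
      rw [Scheme.Hom.fiberι_asFiber]; exact hxU
    refine (TopDim.Basic.localDim_le (f.asFiber x) O hxO).trans ?_
    let u : (U : Scheme.{u}) := (⟨x, hxU⟩ : U)
    refine le_trans (dim_le_of_range (φ := fun s : (O : Set ↥(f.fiber (f x))) => f.fiberι (f x) s.1)
      ((f.fiberι (f x)).isEmbedding.isInducing.comp IsInducing.subtypeVal) (hψ u) fun s => ?_) ?_
    · refine hψr u _ s.2 ?_
      show f (f.fiberι (f x) s.1) = f x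
      exact (f.range_fiberι (f x)).subset ⟨s.1, rfl⟩
    · exact dim_le_of_components fun C hC => (hfibU u C hC).le
  -- the prime of `ξ`
  have hξx : ξ ⤳ x := specializes_iff_mem_closure.mpr hx
  obtain ⟨P', hP'⟩ := hV.range_fromSpec.superset (hξx.mem_open V.isOpen hxV)
  let P : PrimeSpectrum Γ(X, V) := P'
  replace hP' : hV.fromSpec P = ξ := hP'
  haveI := P.2
  let π := Ideal.Quotient.mkₐ Γ(Y, U₀) P.asIdeal
  have hπ : Function.Surjective π := Ideal.Quotient.mk_surjective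
  have hkerπ : RingHom.ker π = P.asIdeal := Ideal.mk_ker
  haveI : Algebra.FiniteType Γ(Y, U₀) (Γ(X, V) ⧸ P.asIdeal) := Algebra.FiniteType.of_surjective π hπ
  have hst : ringKrullDim (X.presheaf.stalk ξ) = P.asIdeal.height := by
    letI := X.presheaf.algebra_section_stalk (⟨ξ, hξx.mem_open V.isOpen hxV⟩ : V)
    haveI : IsLocalization.AtPrime (X.presheaf.stalk ξ) P.asIdeal := by
      have h := hV.isLocalization_stalk ⟨ξ, hξx.mem_open V.isOpen hxV⟩
      have he : hV.primeIdealOf ⟨ξ, hξx.mem_open V.isOpen hxV⟩ = P := hV.fromSpec.isOpenEmbedding.injective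
        ((hV.fromSpec_primeIdealOf _).trans hP'.symm)
      rwa [he] at h
    exact IsLocalization.AtPrime.ringKrullDim_eq_height P.asIdeal (X.presheaf.stalk ξ)
  have hn : (RingHom.ker π).height ≤ n := by
    rw [hkerπ]
    rw [hst] at hcodim
    exact WithBot.coe_le_coe.mp hcodim
  have hmemV : ∀ z, z ∈ closure ({ξ} : Set X) → z ∈ V → ∀ p, f z = hU₀.fromSpec p →
      ∃ M, ch hV π p M = z := fun z hz hzV p hfz => by
    obtain ⟨Q', hQ'⟩ := hV.range_fromSpec.superset hzV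
    let Q : PrimeSpectrum Γ(X, V) := Q'
    replace hQ' : hV.fromSpec Q = z := hQ'
    obtain ⟨M, hM⟩ := exists_ch f hU₀ hV hVU halg π hπ p Q (by
      refine hkerπ.le.trans ((PrimeSpectrum.le_iff_specializes P Q).mpr ?_)
      refine hV.fromSpec.isOpenEmbedding.isInducing.specializes_iff.mp ?_
      rw [hQ', hP']; exact specializes_iff_mem_closure.mpr hz) (by rw [hQ']; exact hfz)
    exact ⟨M, hM.trans hQ'⟩
  have hchZ : ∀ p M, ch hV π p M ∈ closure ({ξ} : Set X) := fun p M => by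
    rw [← hP']
    refine (Specializes.map ?_ hV.fromSpec.continuous).mem_closure
    exact (PrimeSpectrum.le_iff_specializes P _).mp fun a ha => by
      show π a ∈ (pr p M).asIdeal
      rw [show π a = 0 from Ideal.Quotient.eq_zero_iff_mem.mpr ha]; exact Ideal.zero_mem _
  -- a closed point of the fibre near `x`
  let p := hU₀.primeIdealOf ⟨f x, hyU₀⟩
  have hp : hU₀.fromSpec p = f x := hU₀.fromSpec_primeIdealOf _
  obtain ⟨Mx, hMx⟩ := hmemV x hx hxV p hp.symm
  haveI : IsJacobsonRing (p.asIdeal.Fiber (Γ(X, V) ⧸ P.asIdeal)) :=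
    isJacobsonRing_of_finiteType (A := p.asIdeal.ResidueField)
  haveI : IsNoetherianRing (p.asIdeal.Fiber (Γ(X, V) ⧸ P.asIdeal)) :=
    Algebra.FiniteType.isNoetherianRing p.asIdeal.ResidueField _
  obtain ⟨OS, hxOS, hOS⟩ := TopDim.Basic.exists_localDim
    (⟨x, ⟨hx, rfl⟩⟩ : ↥(closure ({ξ} : Set X) ∩ f ⁻¹' {f x}))
  obtain ⟨O₁, hO₁, hO₁e⟩ := isOpen_induced_iff.mp OS.isOpen
  have hxO₁ : x ∈ O₁ := (Set.ext_iff.mp hO₁e (⟨x, ⟨hx, rfl⟩⟩ : ↥(closure ({ξ} : Set X) ∩ f ⁻¹' {f x}))).mpr hxOS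
  obtain ⟨M, hM, hMxM, hMO⟩ := exists_maximal Mx (ch hV π p ⁻¹' O₁)
    (hO₁.preimage (ch_isEmbedding hV π hπ p).continuous) (by rw [Set.mem_preimage, hMx]; exact hxO₁)
  obtain ⟨d, hd⟩ := ENat.ne_top_iff_exists.mp (M.asIdeal.height_ne_top_of_isPrime)
  have hdl : (d : WithBot ℕ∞) ≤ FlatMor.localDim ↥(closure ({ξ} : Set X) ∩ f ⁻¹' {f x}) ⟨x, ⟨hx, rfl⟩⟩ := by
    rw [← hOS]
    obtain ⟨l, hl, hlen⟩ := M.asIdeal.exists_ltSeries_length_eq_height
    rw [← hd, Nat.cast_inj] at hlen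
    rw [← hlen]
    have hmem : ∀ i, ch hV π p (l i) ∈ O₁ := fun i => Specializes.mem_open
      ((ch_specializes hV π hπ p _ _).mpr ((l.monotone (Fin.le_last i)).trans hl.le)) hO₁ hMO
    let pt : ∀ i, ↥(closure ({ξ} : Set X) ∩ f ⁻¹' {f x}) := fun i =>
      ⟨ch hV π p (l i), hchZ p _, (f_ch f hU₀ hV hVU halg π p _).trans hp⟩
    refine le_dim_of_chain (fun i => (⟨pt i, hO₁e.subset (show pt i ∈ Subtype.val ⁻¹' O₁ from hmem i)⟩ :
      ↥(OS : Set ↥(closure ({ξ} : Set X) ∩ f ⁻¹' {f x})))) fun i => ⟨?_, fun he => ?_⟩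
    · rw [subtype_specializes_iff, subtype_specializes_iff]
      exact (ch_specializes hV π hπ p _ _).mpr (l.step i).le
    · exact (show l i.castSucc < l i.succ from l.step i).ne
        ((ch_isEmbedding hV π hπ p).injective (congrArg Subtype.val (congrArg Subtype.val he) : (pt i.castSucc).1 = (pt i.succ).1))
  obtain ⟨hb1, hb2⟩ := height_bound π hπ q₀ hdom e hfib n hn p M hM d hd.symm
  have hde : n + d = e := by
    have h := ((add_le_add hdl (le_refl ((n : ℕ) : WithBot ℕ∞))).trans hdim).trans hfibx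
    rw [← Nat.cast_add, Nat.cast_le] at h
    omega
  obtain ⟨hht, hunder⟩ := hb2 hde.le
  have hfd : ((d + n : ℕ) : WithBot ℕ∞) ≤
      FlatMor.localDim ↥(closure ({ξ} : Set X) ∩ f ⁻¹' {f x}) ⟨x, ⟨hx, rfl⟩⟩ + n := by
    rw [Nat.cast_add]; exact add_le_add hdl le_rfl
  have hfeq : FlatMor.fibreDimAt f x = ((d + n : ℕ) : WithBot ℕ∞) :=
    le_antisymm (hfibx.trans (by rw [show d + n = e by omega])) (hfd.trans hdim)
  refine ⟨?_, ?_, le_antisymm hdim (hfeq.le.trans hfd), ?_⟩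
  · rw [hkerπ] at hht
    rw [hst, hht]; rfl
  · rw [hkerπ] at hunder
    rw [← hP', f_fromSpec f hU₀ hV hVU halg, ← hq₀]
    exact congrArg hU₀.fromSpec (PrimeSpectrum.ext hunder)
  obtain ⟨r, hr, Hr⟩ := exists_nbhd p M hM d hd.symm
  obtain ⟨rB, hrB⟩ := hπ r
  have hbasic : ∀ Q : PrimeSpectrum Γ(X, V), hV.fromSpec Q ∈ X.basicOpen rB ↔ rB ∉ Q.asIdeal := fun Q => by
    have h := SetLike.ext_iff.mp (hV.fromSpec_preimage_basicOpen rB) Q
    exact h
  have hrch : ∀ p M, ch hV π p M ∈ X.basicOpen rB ↔ r ∉ (pr p M).asIdeal := fun p M => by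
    rw [ch, hbasic, ← hrB]; rfl
  refine ⟨d, X.basicOpen rB, ?_, hfeq, ?_⟩
  · rw [← hMx, hrch]
    exact fun h => hr (pr_le_iff.mpr hMxM h)
  intro O' hO' z hz hzO' hzmax
  have hO'V : O' ≤ V := hO'.trans (X.basicOpen_le rB)
  let pz := hU₀.primeIdealOf ⟨f z, hVU (hO'V hzO')⟩
  have hpz : hU₀.fromSpec pz = f z := hU₀.fromSpec_primeIdealOf _
  obtain ⟨Mz, hMz⟩ := hmemV z hz (hO'V hzO') pz hpz.symm
  have hmin : Mz.asIdeal ∈ minimalPrimes (pz.asIdeal.Fiber (Γ(X, V) ⧸ P.asIdeal)) := by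
    refine ⟨⟨Mz.2, bot_le⟩, fun I hI hle => ?_⟩
    let M' : PrimeSpectrum _ := ⟨I, hI.1⟩
    have h1 : ch hV π pz M' ⤳ z := hMz ▸ (ch_specializes hV π hπ pz M' Mz).mpr hle
    have h2 := hzmax _ (hchZ pz M') (h1.mem_open O'.isOpen hzO') ((f_ch f hU₀ hV hVU halg π pz M').trans hpz) h1
    rw [← hMz] at h2
    exact ((ch_isEmbedding hV π hπ pz).injective h2) ▸ le_rfl
  refine le_antisymm ?_ ?_
  · refine le_trans ?_ (Hr pz Mz ((hrch pz Mz).mp (by rw [hMz]; exact hO' hzO')))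
    refine dim_le_quot (φ := Subtype.val) IsInducing.subtypeVal (ch_isEmbedding hV π hπ pz) Mz.asIdeal ?_
    rintro ⟨s, ⟨hsz, hsO⟩, hsf⟩
    obtain ⟨Ms, hMs⟩ := hmemV s (closure_minimal (Set.singleton_subset_iff.mpr hz) isClosed_closure hsz)
      (hO'V hsO) pz (hsf.trans hpz.symm)
    refine ⟨Ms, (ch_specializes hV π hπ pz Mz Ms).mp ?_, hMs⟩
    rw [hMz, hMs]; exact specializes_iff_mem_closure.mpr hsz
  · obtain ⟨l, hle, hl⟩ := exists_chain π hπ q₀ hdom e hfib n hn pz Mz hmin (ch hV π pz ⁻¹' O')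
      (O'.isOpen.preimage (ch_isEmbedding hV π hπ pz).continuous) (by rw [Set.mem_preimage, hMz]; exact hzO')
    refine le_trans (Nat.cast_le.mpr (by omega : d ≤ l.length)) ?_
    refine le_dim_of_chain (fun i => (⟨ch hV π pz (l i), ⟨?_, (hl i).2⟩,
      (f_ch f hU₀ hV hVU halg π pz _).trans hpz⟩ : ↥(closure ({z} : Set X) ∩ (O' : Set X) ∩ f ⁻¹' {f z})))
      fun i => ⟨?_, fun he => ?_⟩
    · rw [← hMz]
      exact ((ch_specializes hV π hπ pz Mz _).mpr (hl i).1).mem_closure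
    · rw [subtype_specializes_iff]
      exact (ch_specializes hV π hπ pz _ _).mpr (l.step i).le
    · exact (show l i.castSucc < l i.succ from l.step i).ne
        ((ch_isEmbedding hV π hπ pz).injective
          (congrArg (fun c : ↥(closure ({z} : Set X) ∩ (O' : Set X) ∩ f ⁻¹' {f z}) => (c : X)) he))

/-- Gluing: a closed set which near `x` is a finite union of good irreducible pieces is equidimensional. -/
theorem isEquidimAt_of_good {X Y : Scheme.{u}} [IrreducibleSpace Y] [IsLocallyNoetherian Y] (f : X ⟶ Y)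
    (C : Closeds X) (O : X.Opens) (s : Set X) (d : ℕ)
    (hcov : ∀ c ∈ C, c ∈ O → ∃ ξ ∈ s, ξ ⤳ c) (hsC : ∀ ξ ∈ s, ξ ∈ C)
    (hgen : ∀ ξ ∈ s, f ξ = genericPoint Y) (hgood : ∀ ξ ∈ s, Good f (closure {ξ}) O d)
    (w : ↥(Scheme.IdealSheafData.vanishingIdeal C).subscheme)
    (hw : (Scheme.IdealSheafData.vanishingIdeal C).subschemeι.base w ∈ O) :
    EGA43.IsEquidimAt ((Scheme.IdealSheafData.vanishingIdeal C).subschemeι ≫ f) w := by
  let I := Scheme.IdealSheafData.vanishingIdeal C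
  let j := I.subschemeι
  have hrange : Set.range j.base = (C : Set X) := by
    rw [show Set.range j.base = _ from I.range_subschemeι, Scheme.IdealSheafData.coe_support_vanishingIdeal]
  let U' : I.subscheme.Opens := j ⁻¹ᵁ O
  haveI : QuasiSober (↥U' : Type u) := U'.2.isOpenEmbedding_subtypeVal.quasiSober
  let k := U'.ι ≫ j
  have hk : IsEmbedding k := j.isEmbedding.comp U'.ι.isOpenEmbedding.isEmbedding
  have hkr : ∀ c, c ∈ C → c ∈ O → c ∈ Set.range k := fun c hc hcO => by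
    obtain ⟨a, rfl⟩ : c ∈ Set.range j.base := by rw [hrange]; exact hc
    exact ⟨(⟨a, hcO⟩ : U'), rfl⟩
  have hkC : ∀ a, k a ∈ C ∧ k a ∈ O := fun a => by
    refine ⟨?_, (show U'.ι a ∈ U' from a.2)⟩
    show j (U'.ι a) ∈ (C : Set X)
    rw [← hrange]; exact ⟨_, rfl⟩
  refine ⟨d, U', hw, fun Zc hZc => ⟨Set.univ, ?_, Set.mem_univ _, ?_⟩, fun a Zc hZc => ?_⟩
  · rw [irreducibleComponents_eq_singleton]; rfl
  · have hcl := isClosed_of_mem_irreducibleComponents Zc hZc
    let g := hZc.1.genericPoint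
    have hg : closure ({g} : Set _) = Zc := by rw [hZc.1.genericPoint_closure_eq, hcl.closure_eq]
    obtain ⟨ξ, hξs, hξg⟩ := hcov (k g) (hkC g).1 (hkC g).2
    obtain ⟨g', hg'⟩ := hkr ξ (hsC ξ hξs) (hξg.mem_open O.isOpen (hkC g).2)
    have hg'g : g' ⤳ g := hk.isInducing.specializes_iff.mp (by rw [hg']; exact hξg)
    have hle : Zc ⊆ closure {g'} := by
      rw [← hg]; exact closure_minimal (Set.singleton_subset_iff.mpr hg'g.mem_closure) isClosed_closure
    have hg'Z : g' ∈ Zc := hZc.2 isIrreducible_singleton.closure hle (subset_closure rfl)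
    refine Set.eq_univ_of_univ_subset ?_
    rw [← (genericPoint_spec Y)]
    refine closure_mono (Set.singleton_subset_iff.mpr ⟨g', hg'Z, ?_⟩)
    show f (k g') = genericPoint Y
    rw [hg', hgen ξ hξs]
  · let h := U'.ι ≫ j ≫ f
    let ψ : ↥(h.fiber (h a)) → X := fun g => k (h.fiberι _ g)
    have hψ : IsEmbedding ψ := hk.comp (h.fiberι _).isEmbedding
    have hψf : ∀ g, f (ψ g) = h a := fun g => (h.range_fiberι (h a)).subset ⟨g, rfl⟩
    have hψr : ∀ c, c ∈ C → c ∈ O → f c = h a → c ∈ Set.range ψ := fun c hc hcO hfc => by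
      obtain ⟨b, rfl⟩ := hkr c hc hcO
      obtain ⟨g, rfl⟩ : b ∈ Set.range (h.fiberι (h a)) := by rw [h.range_fiberι]; exact hfc
      exact ⟨g, rfl⟩
    have hcl := isClosed_of_mem_irreducibleComponents Zc hZc
    let g := hZc.1.genericPoint
    have hg : closure ({g} : Set _) = Zc := by rw [hZc.1.genericPoint_closure_eq, hcl.closure_eq]
    obtain ⟨ξ, hξs, hξg⟩ := hcov (ψ g) (hkC _).1 (hkC _).2
    have hξC : closure ({ξ} : Set X) ⊆ C := closure_minimal (Set.singleton_subset_iff.mpr (hsC ξ hξs)) C.isClosed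
    have hzmax : ∀ z' ∈ closure ({ξ} : Set X), z' ∈ O → f z' = f (ψ g) → z' ⤳ ψ g → z' = ψ g := by
      intro z' hz' hzO hfz hzg
      obtain ⟨g', rfl⟩ := hψr z' (hξC hz') hzO (hfz.trans (hψf g))
      have h1 : g' ⤳ g := hψ.isInducing.specializes_iff.mp hzg
      have hle : Zc ⊆ closure {g'} := by
        rw [← hg]; exact closure_minimal (Set.singleton_subset_iff.mpr h1.mem_closure) isClosed_closure
      have h2 : g' ∈ Zc := hZc.2 isIrreducible_singleton.closure hle (subset_closure rfl)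
      rw [← hg] at h2
      exact congrArg ψ (h1.antisymm (specializes_iff_mem_closure.mpr h2)).eq
    refine Eq.trans ?_ (hgood ξ hξs O le_rfl (ψ g) hξg.mem_closure (hkC _).2 hzmax)
    refine le_antisymm ?_ ?_
    · refine dim_le_of_range (φ := fun b : Zc => ψ b) (hψ.isInducing.comp IsInducing.subtypeVal)
        IsEmbedding.subtypeVal fun b => ?_
      rw [Subtype.range_coe]
      refine ⟨⟨?_, (hkC _).2⟩, (hψf _).trans (hψf g).symm⟩
      exact ((specializes_iff_mem_closure.mpr (hg.symm.subset b.2)).map hψ.continuous).mem_closure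
    · refine dim_le_of_range (φ := Subtype.val) IsInducing.subtypeVal (g := fun b : Zc => ψ b)
        (hψ.comp IsEmbedding.subtypeVal) fun c => ?_
      obtain ⟨⟨hcz, hcO⟩, hcf⟩ := c.2
      obtain ⟨b, hb⟩ := hψr c.1 (closure_minimal (Set.singleton_subset_iff.mpr (hkC _).1) C.isClosed hcz) hcO
        (hcf.trans (hψf g))
      refine ⟨⟨b, hg.subset (specializes_iff_mem_closure.mp (hψ.isInducing.specializes_iff.mp ?_))⟩, hb⟩
      rw [hb]; exact specializes_iff_mem_closure.mpr hcz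

end Groth.Agent.Equidim
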