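import Mathlib
import Groth.Agent.Equidim.Scheme

set_option autoImplicit false
set_option backward.isDefEq.respectTransparency false
universe u
open CategoryTheory AlgebraicGeometry TopologicalSpace Topology
open Groth.Agent.Equidim.Core

namespace Groth.Agent.Equidim

section
variable {X Y : Scheme.{u}} (f : X ⟶ Y) [LocallyOfFiniteType f] {U₀ : Y.Opens} (hU₀ : IsAffineOpen U₀)
  {V : X.Opens} (hV : IsAffineOpen V) (hVU : V ≤ f ⁻¹ᵁ U₀) [Algebra Γ(Y, U₀) Γ(X, V)]
  (halg : algebraMap Γ(Y, U₀) Γ(X, V) = (f.appLE U₀ V hVU).hom)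

include hU₀ hV halg in
theorem finiteType_chart : Algebra.FiniteType Γ(Y, U₀) Γ(X, V) := by
  rw [← RingHom.finiteType_algebraMap, halg]
  exact LocallyOfFiniteType.finiteType_appLE f hU₀ hV hVU

include hU₀ hV halg in
/-- Parameters near a point, as many as the dimension of its fibre. -/
theorem exists_params_at (x : X) (hxV : x ∈ V) :
    ∃ (d : ℕ) (b : Fin d → Γ(X, V)),
      letI := (MvPolynomial.aeval b : MvPolynomial (Fin d) Γ(Y, U₀) →ₐ[Γ(Y, U₀)] Γ(X, V)).toRingHom.toAlgebra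
      ∃ r : Γ(X, V), (d : WithBot ℕ∞) ≤ FlatMor.fibreDimAt f x ∧ x ∈ X.basicOpen r ∧
        ∀ Q : PrimeSpectrum Γ(X, V), r ∉ Q.asIdeal →
          Algebra.QuasiFiniteAt (MvPolynomial (Fin d) Γ(Y, U₀)) Q.asIdeal := by
  haveI : Algebra.FiniteType Γ(Y, U₀) Γ(X, V) := finiteType_chart f hU₀ hV hVU halg
  let π := AlgHom.id Γ(Y, U₀) Γ(X, V)
  have hπ : Function.Surjective π := Function.surjective_id
  let p := hU₀.primeIdealOf ⟨f x, hVU hxV⟩
  have hp : hU₀.fromSpec p = f x := hU₀.fromSpec_primeIdealOf _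
  obtain ⟨Q', hQ'⟩ := hV.range_fromSpec.superset hxV
  let Q : PrimeSpectrum Γ(X, V) := Q'
  replace hQ' : hV.fromSpec Q = x := hQ'
  obtain ⟨Mx, hMx⟩ := exists_ch f hU₀ hV hVU halg π hπ p Q
    (fun a ha => by rw [(show a = 0 from ha)]; exact Ideal.zero_mem _) (by rw [hQ', hp])
  rw [hQ'] at hMx
  haveI : IsJacobsonRing (p.asIdeal.Fiber Γ(X, V)) := isJacobsonRing_of_finiteType (A := p.asIdeal.ResidueField)
  haveI : IsNoetherianRing (p.asIdeal.Fiber Γ(X, V)) :=
    Algebra.FiniteType.isNoetherianRing p.asIdeal.ResidueField _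
  obtain ⟨OS, hxOS, hOS⟩ := TopDim.Basic.exists_localDim (f.asFiber x)
  let ι := f.fiberι (f x)
  obtain ⟨O₁, hO₁, hO₁e⟩ := ι.isEmbedding.isInducing.isOpen_iff.mp OS.isOpen
  have hxO₁ : x ∈ O₁ := by
    rw [← f.fiberι_asFiber x]
    exact (Set.ext_iff.mp hO₁e _).mpr hxOS
  obtain ⟨M, hM, hMxM, hMO⟩ := exists_maximal Mx (ch hV π p ⁻¹' O₁)
    (hO₁.preimage (ch_isEmbedding hV π hπ p).continuous) (by rw [Set.mem_preimage, hMx]; exact hxO₁)
  obtain ⟨d, hd⟩ := ENat.ne_top_iff_exists.mp (M.asIdeal.height_ne_top_of_isPrime)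
  obtain ⟨b, r, hr, H⟩ := exists_params p M hM d hd.symm
  refine ⟨d, b, r, ?_, ?_, H⟩
  · rw [show FlatMor.fibreDimAt f x = _ from hOS.symm]
    obtain ⟨l, hl, hlen⟩ := M.asIdeal.exists_ltSeries_length_eq_height
    rw [← hd, Nat.cast_inj] at hlen
    rw [← hlen]
    have hmem : ∀ i, ch hV π p (l i) ∈ O₁ := fun i => Specializes.mem_open
      ((ch_specializes hV π hπ p _ _).mpr ((l.monotone (Fin.le_last i)).trans hl.le)) hO₁ hMO
    have hrange : ∀ i, ch hV π p (l i) ∈ Set.range ι := fun i => by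
      rw [f.range_fiberι]; exact (f_ch f hU₀ hV hVU halg π p _).trans hp
    choose g hg using hrange
    refine le_dim_of_chain (fun i => (⟨g i, hO₁e.subset (show g i ∈ ι ⁻¹' O₁ by rw [Set.mem_preimage, hg]; exact hmem i)⟩ :
      ↥(OS : Set ↥(f.fiber (f x))))) fun i => ⟨?_, fun he => ?_⟩
    · rw [subtype_specializes_iff]
      refine ι.isEmbedding.isInducing.specializes_iff.mp ?_
      rw [hg, hg]
      exact (ch_specializes hV π hπ p _ _).mpr (l.step i).le
    · refine (show l i.castSucc < l i.succ from l.step i).ne ((ch_isEmbedding hV π hπ p).injective ?_)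
      rw [← hg, ← hg]
      exact congrArg ι (congrArg Subtype.val he)
  · have h := SetLike.ext_iff.mp (hV.fromSpec_preimage_basicOpen r) (PrimeSpectrum.comap π.toRingHom (pr p Mx))
    rw [← hMx]
    exact h.mpr fun hh => hr (pr_le_iff.mpr hMxM hh)

include hU₀ hV halg in
/-- Where the parameters are quasi-finite, fibres have dimension at most their number. -/
theorem fibreDimAt_le_of_params {d : ℕ} (b : Fin d → Γ(X, V)) (r : Γ(X, V))
    (H : letI := (MvPolynomial.aeval b : MvPolynomial (Fin d) Γ(Y, U₀) →ₐ[Γ(Y, U₀)] Γ(X, V)).toRingHom.toAlgebra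
      ∀ Q : PrimeSpectrum Γ(X, V), r ∉ Q.asIdeal →
          Algebra.QuasiFiniteAt (MvPolynomial (Fin d) Γ(Y, U₀)) Q.asIdeal)
    (z : X) (hz : z ∈ X.basicOpen r) : FlatMor.fibreDimAt f z ≤ (d : ℕ) := by
  haveI : Algebra.FiniteType Γ(Y, U₀) Γ(X, V) := finiteType_chart f hU₀ hV hVU halg
  let π := AlgHom.id Γ(Y, U₀) Γ(X, V)
  have hπ : Function.Surjective π := Function.surjective_id
  let ι := f.fiberι (f z)
  let O : Opens ↥(f.fiber (f z)) := ⟨ι ⁻¹' (X.basicOpen r : Set X), (X.basicOpen r).isOpen.preimage ι.continuous⟩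
  have hzO : f.asFiber z ∈ O := by
    show ι (f.asFiber z) ∈ X.basicOpen r
    rw [Scheme.Hom.fiberι_asFiber]; exact hz
  refine (TopDim.Basic.localDim_le (f.asFiber z) O hzO).trans ?_
  haveI : QuasiSober (O : Set ↥(f.fiber (f z))) := O.2.isOpenEmbedding_subtypeVal.quasiSober
  refine dim_le_of_components fun C hC => ?_
  have hCc := isClosed_of_mem_irreducibleComponents C hC
  let g := hC.1.genericPoint
  have hg : closure ({g} : Set _) = C := by rw [hC.1.genericPoint_closure_eq, hCc.closure_eq]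
  let p := hU₀.primeIdealOf ⟨f z, hVU (X.basicOpen_le r hz)⟩
  have hp : hU₀.fromSpec p = f z := hU₀.fromSpec_primeIdealOf _
  have hmem : ∀ s : (O : Set ↥(f.fiber (f z))), ∃ M, ch hV π p M = ι s.1 := fun s => by
    obtain ⟨Q', hQ'⟩ := hV.range_fromSpec.superset (X.basicOpen_le r s.2)
    let Q : PrimeSpectrum Γ(X, V) := Q'
    replace hQ' : hV.fromSpec Q = ι s.1 := hQ'
    obtain ⟨M, hM⟩ := exists_ch f hU₀ hV hVU halg π hπ p Q
      (fun a ha => by rw [(show a = 0 from ha)]; exact Ideal.zero_mem _)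
      (by rw [hQ', hp]; exact (f.range_fiberι (f z)).subset ⟨s.1, rfl⟩)
    exact ⟨M, hM.trans hQ'⟩
  obtain ⟨Mg, hMg⟩ := hmem g
  have hrg : r ∉ (pr p Mg).asIdeal := by
    have h := SetLike.ext_iff.mp (hV.fromSpec_preimage_basicOpen r) (PrimeSpectrum.comap π.toRingHom (pr p Mg))
    refine h.mp ?_
    show ch hV π p Mg ∈ X.basicOpen r
    rw [hMg]; exact g.2
  refine le_trans ?_ (dim_le_of_qf b p Mg (H (pr p Mg) hrg))
  refine dim_le_quot (φ := fun s : C => ι s.1.1)
    (ι.isEmbedding.isInducing.comp (IsInducing.subtypeVal.comp IsInducing.subtypeVal))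
    (ch_isEmbedding hV π hπ p) Mg.asIdeal fun s => ?_
  obtain ⟨M, hM⟩ := hmem s.1
  refine ⟨M, (ch_specializes hV π hπ p Mg M).mp ?_, hM⟩
  rw [hMg, hM]
  exact (((specializes_iff_mem_closure.mpr (hg.symm.subset s.2)).map continuous_subtype_val)).map ι.continuous

end

/-- Chevalley's semicontinuity theorem. -/
theorem isOpen_fibreDimAt_le {X Y : Scheme.{u}} (f : X ⟶ Y) [LocallyOfFiniteType f] (c : WithBot ℕ∞) :
    IsOpen {x : X | FlatMor.fibreDimAt f x ≤ c} := by
  refine isOpen_iff_forall_mem_open.mpr fun x hx => ?_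
  obtain ⟨U₀, hU₀, hyU₀, -⟩ := exists_isAffineOpen_mem_and_subset (X := Y) (U := ⊤) (x := f x) trivial
  obtain ⟨V, hV, hxV, hVU⟩ :=
    exists_isAffineOpen_mem_and_subset (X := X) (U := f ⁻¹ᵁ U₀) (x := x) hyU₀
  letI : Algebra Γ(Y, U₀) Γ(X, V) := (f.appLE U₀ V hVU).hom.toAlgebra
  obtain ⟨d, b, r, hd, hxr, H⟩ := exists_params_at f hU₀ hV hVU rfl x hxV
  exact ⟨X.basicOpen r, fun z hz => ((fibreDimAt_le_of_params f hU₀ hV hVU rfl b r H z hz).trans hd).trans hx,
    (X.basicOpen r).isOpen, hxr⟩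

end Groth.Agent.Equidim

namespace Groth.Agent.Equidim

section
variable {X Y : Scheme.{u}} (f : X ⟶ Y)

theorem localDim_fiber_eq (y : Y) (z : ↥(f.fiber y)) (x : X) (hz : f.fiberι y z = x) :
    FlatMor.localDim ↥(f.fiber y) z = FlatMor.fibreDimAt f x := by
  have hy : f x = y := by
    rw [← hz]; exact (f.range_fiberι y).subset ⟨z, rfl⟩
  subst hy
  obtain rfl : z = f.asFiber x := (f.fiberι (f x)).isEmbedding.injective (by rw [hz, Scheme.Hom.fiberι_asFiber])
  rfl

theorem fibreDimAt_le_dim (x : X) : FlatMor.fibreDimAt f x ≤ topologicalKrullDim ↥(f.fiber (f x)) :=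
  TopDim.Basic.localDim_le_dim _

theorem exists_le_fibreDimAt {y : Y} (s : LTSeries (IrreducibleCloseds ↥(f.fiber y))) :
    ∃ x, f x = y ∧ (s.length : WithBot ℕ∞) ≤ FlatMor.fibreDimAt f x := by
  obtain ⟨z, hz⟩ := s.head.isIrreducible.nonempty
  refine ⟨f.fiberι y z, (f.range_fiberι y).subset ⟨z, rfl⟩, ?_⟩
  rw [← localDim_fiber_eq f y z _ rfl]
  exact TopDim.Basic.length_le_localDim s hz

theorem dim_fiber_le_iff (y : Y) (c : WithBot ℕ∞) :
    topologicalKrullDim ↥(f.fiber y) ≤ c ↔ ∀ x, f x = y → FlatMor.fibreDimAt f x ≤ c := by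
  refine ⟨fun h x hx => (fibreDimAt_le_dim f x).trans (hx ▸ h), fun h => TopDim.Basic.dim_le fun s => ?_⟩
  obtain ⟨x, hx, hle⟩ := exists_le_fibreDimAt f s
  exact hle.trans (h x hx)

variable [LocallyOfFiniteType f]

theorem isOpen_setOf_fibre_dim_le (hf : IsClosedMap f.base) (c : WithBot ℕ∞) :
    IsOpen {y : Y | topologicalKrullDim ↥(f.fiber y) ≤ c} := by
  have : {y : Y | topologicalKrullDim ↥(f.fiber y) ≤ c} = (f.base '' {x | FlatMor.fibreDimAt f x ≤ c}ᶜ)ᶜ := by
    ext y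
    rw [Set.mem_setOf_eq, dim_fiber_le_iff, Set.mem_compl_iff, Set.mem_image]
    exact ⟨fun h ⟨x, hx, hxy⟩ => hx (h x hxy), fun h x hxy => not_not.mp fun hx => h ⟨x, hx, hxy⟩⟩
  rw [this]
  exact (hf _ (isOpen_fibreDimAt_le f c).isClosed_compl).isOpen_compl

theorem isClosed_setOf_le_fibre_dim (hf : IsClosedMap f.base) (n : ℕ) :
    IsClosed {y : Y | (n : WithBot ℕ∞) ≤ topologicalKrullDim ↥(f.fiber y)} := by
  have h1 : IsClosed {x : X | (n : WithBot ℕ∞) ≤ FlatMor.fibreDimAt f x} := by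
    refine isOpen_compl_iff.mp (isOpen_iff_forall_mem_open.mpr fun x hx => ?_)
    exact ⟨{z | FlatMor.fibreDimAt f z ≤ FlatMor.fibreDimAt f x}, fun z hz (h : (n : WithBot ℕ∞) ≤ FlatMor.fibreDimAt f z) => hx (h.trans hz : (n : WithBot ℕ∞) ≤ FlatMor.fibreDimAt f x), isOpen_fibreDimAt_le f _, le_refl (FlatMor.fibreDimAt f x)⟩
  have : {y : Y | (n : WithBot ℕ∞) ≤ topologicalKrullDim ↥(f.fiber y)} =
      f.base '' {x | (n : WithBot ℕ∞) ≤ FlatMor.fibreDimAt f x} := by
    ext y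
    constructor
    · intro h
      obtain ⟨s, hs⟩ := Order.le_krullDim_iff.mp h
      obtain ⟨x, hx, hle⟩ := exists_le_fibreDimAt f s
      exact ⟨x, by rw [Set.mem_setOf_eq, ← hs]; exact hle, hx⟩
    · rintro ⟨x, hx, rfl⟩
      exact le_trans hx (fibreDimAt_le_dim f x)
  rw [this]
  exact hf _ h1

theorem exists_nat_fibreDimAt_le (x : X) : ∃ n : ℕ, FlatMor.fibreDimAt f x ≤ n := by
  obtain ⟨U₀, hU₀, hyU₀, -⟩ := exists_isAffineOpen_mem_and_subset (X := Y) (U := ⊤) (x := f x) trivial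
  obtain ⟨V, hV, hxV, hVU⟩ :=
    exists_isAffineOpen_mem_and_subset (X := X) (U := f ⁻¹ᵁ U₀) (x := x) hyU₀
  letI : Algebra Γ(Y, U₀) Γ(X, V) := (f.appLE U₀ V hVU).hom.toAlgebra
  obtain ⟨d, b, r, -, hxr, H⟩ := exists_params_at f hU₀ hV hVU rfl x hxV
  exact ⟨d, fibreDimAt_le_of_params f hU₀ hV hVU rfl b r H x hxr⟩

theorem exists_bound [CompactSpace Y] [QuasiCompact f] :
    ∃ n : ℕ, ∀ y : Y, topologicalKrullDim ↥(f.fiber y) ≤ n := by
  haveI : CompactSpace X := QuasiCompact.compactSpace_of_compactSpace f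
  choose n hn using exists_nat_fibreDimAt_le f
  obtain ⟨t, ht⟩ := isCompact_univ.elim_finite_subcover (fun x : X => {z | FlatMor.fibreDimAt f z ≤ (n x : ℕ)})
    (fun x => isOpen_fibreDimAt_le f _) (fun x _ => Set.mem_iUnion.mpr ⟨x, hn x⟩)
  refine ⟨t.sup n, fun y => (dim_fiber_le_iff f y _).mpr fun x _ => ?_⟩
  obtain ⟨z, hz, hxz⟩ := Set.mem_iUnion₂.mp (ht (Set.mem_univ x))
  exact le_trans hxz (by exact_mod_cast Finset.le_sup hz)

theorem generic_fibre_dim_le [IrreducibleSpace X] [IrreducibleSpace Y] [IsDominant f] (x : X) :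
    topologicalKrullDim ↥(f.fiber (genericPoint Y)) ≤ FlatMor.fibreDimAt f x := by
  let ξ := genericPoint X
  have hξ : ∀ z, ξ ⤳ z := fun z => (genericPoint_spec X).specializes (Set.mem_univ z)
  have hη : f ξ = genericPoint Y := by
    refine IsGenericPoint.eq (S := Set.univ) ?_ (genericPoint_spec Y)
    refine Set.eq_univ_of_univ_subset ?_
    rw [← f.denseRange.closure_range]
    refine closure_minimal ?_ isClosed_closure
    rintro _ ⟨z, rfl⟩
    exact ((hξ z).map f.continuous).mem_closure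
  obtain ⟨g, hg⟩ : ξ ∈ Set.range (f.fiberι (genericPoint Y)) := by rw [f.range_fiberι]; exact hη
  refine le_trans ?_ ((hξ x).mem_open (isOpen_fibreDimAt_le f _) (le_refl (FlatMor.fibreDimAt f x)))
  rw [← localDim_fiber_eq f _ g ξ hg]
  haveI : LocallyOfFiniteType (f.fiberToSpecResidueField (genericPoint Y)) :=
    MorphismProperty.pullback_snd (P := @LocallyOfFiniteType) _ _ inferInstance
  have hcl : (Set.univ : Set ↥(f.fiber (genericPoint Y))) = closure {g} :=
    (Set.eq_univ_of_forall fun z => by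
      refine Specializes.mem_closure ((f.fiberι _).isEmbedding.isInducing.specializes_iff.mp ?_)
      rw [hg]; exact hξ _).symm
  refine le_iInf fun U => ?_
  have h := GenDim.dim_le_inter (f.fiberToSpecResidueField (genericPoint Y)) Set.univ
    (hcl ▸ isIrreducible_singleton.closure) isClosed_univ U.1 g trivial U.2
  rw [Set.univ_inter] at h
  exact (IsHomeomorph.topologicalKrullDim_eq _ (Homeomorph.Set.univ _).isHomeomorph).symm.le.trans h

end

end Groth.Agent.Equidim
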