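import Mathlib
import Groth.Agent.Equidim.Upper

set_option autoImplicit false
set_option backward.isDefEq.respectTransparency false
universe u
open CategoryTheory AlgebraicGeometry TopologicalSpace Topology Limits

namespace Groth.Agent.Equidim.AffineParam

/-- All maximal points near `x` generize `x`. -/
theorem exists_nhd_gen {X : Scheme.{u}} [IsLocallyNoetherian X] (x : X) :
    ∃ O : X.Opens, x ∈ O ∧ ∀ ξ ∈ O, (∀ p, p ⤳ ξ → p = ξ) → ξ ⤳ x := by
  obtain ⟨V, hV, hxV, -⟩ := exists_isAffineOpen_mem_and_subset (X := X) (U := ⊤) (x := x) trivial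
  haveI : IsNoetherianRing Γ(X, V) := IsLocallyNoetherian.component_noetherian ⟨V, hV⟩
  obtain ⟨Q', hQ'⟩ := hV.range_fromSpec.superset hxV
  let Q : PrimeSpectrum Γ(X, V) := Q'
  replace hQ' : hV.fromSpec Q = x := hQ'
  let bad : Set (PrimeSpectrum Γ(X, V)) := {m | m.asIdeal ∈ minimalPrimes _ ∧ ¬ m ≤ Q}
  have hfin : bad.Finite := ((minimalPrimes.finite_of_isNoetherianRing _).preimage
      (fun a _ b _ h => PrimeSpectrum.ext h)).subset fun m hm => hm.1
  let C : Set X := ⋃ m ∈ bad, closure {hV.fromSpec m}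
  have hC : IsClosed C := hfin.isClosed_biUnion fun _ _ => isClosed_closure
  refine ⟨⟨(V : Set X) ∩ Cᶜ, V.isOpen.inter hC.isOpen_compl⟩, ⟨hxV, fun h => ?_⟩, fun ξ hξ hmax => ?_⟩
  · simp only [C, Set.mem_iUnion] at h
    obtain ⟨m, hm, hmx⟩ := h
    refine hm.2 ((PrimeSpectrum.le_iff_specializes m Q).mpr
      (hV.fromSpec.isOpenEmbedding.isInducing.specializes_iff.mp ?_))
    rw [hQ']; exact specializes_iff_mem_closure.mpr hmx
  · obtain ⟨R', hR'⟩ := hV.range_fromSpec.superset hξ.1
    let R : PrimeSpectrum Γ(X, V) := R'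
    replace hR' : hV.fromSpec R = ξ := hR'
    subst hR'
    obtain ⟨m, hm, hle⟩ := Ideal.exists_minimalPrimes_le (bot_le (a := R.asIdeal))
    let m' : PrimeSpectrum Γ(X, V) := ⟨m, hm.1.1⟩
    have hm' : hV.fromSpec m' = hV.fromSpec R :=
      hmax _ (((PrimeSpectrum.le_iff_specializes m' R).mp hle).map hV.fromSpec.continuous)
    by_contra hne
    refine hξ.2 (Set.mem_biUnion (x := m') ⟨hm, fun h => hne ?_⟩ ?_)
    · rw [← hm', ← hQ']
      exact ((PrimeSpectrum.le_iff_specializes m' Q).mp h).map hV.fromSpec.continuous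
    · rw [hm']; exact subset_closure rfl

section fib

variable {U Y : Scheme.{u}} {e : ℕ} (q : U ⟶ Y) (g : U ⟶ 𝔸(ULift.{u} (Fin e); Y))
  (hgq : g ≫ (𝔸(ULift.{u} (Fin e); Y) ↘ Y) = q)

/-- The parameters on a fibre. -/
noncomputable def fibHom (t : Y) : q.fiber t ⟶ 𝔸(ULift.{u} (Fin e); Spec (Y.residueField t)) :=
  AffineSpace.homOfVector (q.fiberToSpecResidueField t)
    fun i => (q.fiberι t ≫ g).appTop (AffineSpace.coord Y i)

include hgq in
theorem fibHom_map (t : Y) :
    fibHom q g t ≫ AffineSpace.map _ (Y.fromSpecResidueField t) = q.fiberι t ≫ g := by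
  refine AffineSpace.hom_ext ?_ fun i => ?_
  · rw [Category.assoc, AffineSpace.map_over, ← Category.assoc, fibHom, AffineSpace.homOfVector_over,
      Category.assoc, hgq]
    exact (pullback.condition).symm
  · rw [Scheme.Hom.comp_appTop, CommRingCat.comp_apply, AffineSpace.map_appTop_coord, fibHom,
      AffineSpace.homOfVector_appTop_coord]

theorem isEmbedding_map (t : Y) :
    IsEmbedding (AffineSpace.map (ULift.{u} (Fin e)) (Y.fromSpecResidueField t)) :=
  have h : IsPreimmersion (AffineSpace.map (ULift.{u} (Fin e)) (Y.fromSpecResidueField t)) :=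
    MorphismProperty.of_isPullback (AffineSpace.isPullback_map (Y.fromSpecResidueField t)).flip inferInstance
  h.base_embedding

theorem mem_range_map (t : Y) (z : 𝔸(ULift.{u} (Fin e); Y))
    (hz : (𝔸(ULift.{u} (Fin e); Y) ↘ Y) z = t) :
    z ∈ Set.range (AffineSpace.map (ULift.{u} (Fin e)) (Y.fromSpecResidueField t)) := by
  let h := AffineSpace.isPullback_map (n := ULift.{u} (Fin e)) (Y.fromSpecResidueField t)
  obtain ⟨p, hp⟩ : z ∈ Set.range (pullback.fst (𝔸(ULift.{u} (Fin e); Y) ↘ Y) (Y.fromSpecResidueField t)) := by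
    rw [Scheme.Pullback.range_fst, Scheme.range_fromSpecResidueField]
    exact hz
  refine ⟨h.isoPullback.inv p, ?_⟩
  rw [← hp, ← h.isoPullback_inv_fst]
  rfl

/-- The prime of the polynomial ring below a point of a fibre. -/
noncomputable def fibPrime (t : Y) :
    q.fiber t ⟶ Spec (CommRingCat.of (MvPolynomial (ULift.{u} (Fin e)) (Y.residueField t))) :=
  fibHom q g t ≫ (AffineSpace.SpecIso _ (Y.residueField t)).hom

/-- The zero prime. -/
noncomputable def gen (t : Y) :
    Spec (CommRingCat.of (MvPolynomial (ULift.{u} (Fin e)) (Y.residueField t))) :=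
  (⟨⊥, Ideal.isPrime_bot⟩ : PrimeSpectrum (MvPolynomial (ULift.{u} (Fin e)) (Y.residueField t)))

/-- The point of the affine space attached to a prime. -/
noncomputable def pt (t : Y) (M : Spec (CommRingCat.of (MvPolynomial (ULift.{u} (Fin e)) (Y.residueField t)))) :
    𝔸(ULift.{u} (Fin e); Y) :=
  AffineSpace.map _ (Y.fromSpecResidueField t) ((AffineSpace.SpecIso _ (Y.residueField t)).inv M)

theorem pt_isEmbedding (t : Y) : IsEmbedding (pt (e := e) t) :=
  (isEmbedding_map t).comp (AffineSpace.SpecIso _ (Y.residueField t)).inv.homeomorph.isEmbedding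

theorem mem_range_pt (t : Y) (z : 𝔸(ULift.{u} (Fin e); Y)) (hz : (𝔸(ULift.{u} (Fin e); Y) ↘ Y) z = t) :
    z ∈ Set.range (pt (e := e) t) := by
  obtain ⟨w, rfl⟩ := mem_range_map t z hz
  refine ⟨(AffineSpace.SpecIso _ (Y.residueField t)).hom w, ?_⟩
  show AffineSpace.map _ _ (((AffineSpace.SpecIso _ (Y.residueField t)).hom ≫ (AffineSpace.SpecIso _ (Y.residueField t)).inv) w) = _
  rw [Iso.hom_inv_id]
  rfl

include hgq in
theorem pt_fibPrime (t : Y) (c : q.fiber t) : pt t (fibPrime q g t c) = g (q.fiberι t c) := by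
  show (fibPrime q g t ≫ (AffineSpace.SpecIso _ (Y.residueField t)).inv ≫ AffineSpace.map _ _) c = (q.fiberι t ≫ g) c
  rw [fibPrime, Category.assoc, Iso.hom_inv_id_assoc, fibHom_map q g hgq t]

theorem gen_specializes (t : Y) (M) : gen (e := e) t ⤳ M :=
  (PrimeSpectrum.le_iff_specializes (R := MvPolynomial (ULift.{u} (Fin e)) (Y.residueField t)) _ _).mp bot_le

include hgq in
/-- Maximality of the image, in terms of the parameters. -/
theorem fibPrime_eq_gen (t : Y) (c : q.fiber t)
    (hmax : ∀ z, z ⤳ g (q.fiberι t c) → z = g (q.fiberι t c)) : fibPrime q g t c = gen t := by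
  refine ((pt_isEmbedding t).injective ?_).symm
  rw [pt_fibPrime q g hgq]
  refine hmax _ ?_
  rw [← pt_fibPrime q g hgq]
  exact (gen_specializes t _).map (pt_isEmbedding t).continuous

include hgq in
theorem maximal_image (t : Y) (ht : ∀ s : Y, s ⤳ t → s = t) (c : q.fiber t)
    (hc : fibPrime q g t c = gen t) (z : 𝔸(ULift.{u} (Fin e); Y)) (hz : z ⤳ g (q.fiberι t c)) :
    z = g (q.fiberι t c) := by
  have hfib : (𝔸(ULift.{u} (Fin e); Y) ↘ Y) (g (q.fiberι t c)) = t := by
    show (g ≫ _) (q.fiberι t c) = t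
    rw [hgq]
    exact (q.range_fiberι t).subset ⟨c, rfl⟩
  obtain ⟨M, rfl⟩ := mem_range_pt t z (ht _ (hfib ▸ hz.map (Scheme.Hom.continuous _)))
  rw [← pt_fibPrime q g hgq, hc] at hz ⊢
  exact congrArg _ (((pt_isEmbedding t).isInducing.specializes_iff.mp hz).antisymm (gen_specializes t M)).eq

include hgq in
theorem fibPrime_strict [LocallyQuasiFinite g] (t : Y) (a b : q.fiber t) (h : a ⤳ b)
    (he : fibPrime q g t a = fibPrime q g t b) : a = b := by
  refine (q.fiberι t).isEmbedding.injective ?_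
  refine (g.isDiscrete_preimage_singleton (g (q.fiberι t b))).eq_of_specializes
    (h.map (q.fiberι t).continuous) ?_ rfl
  show g (q.fiberι t a) = g (q.fiberι t b)
  rw [← pt_fibPrime q g hgq, ← pt_fibPrime q g hgq, he]

include hgq in
/-- Dimension of an irreducible closed subset of a fibre. -/
theorem length_le [LocallyQuasiFinite g] (t : Y) (C : Set (q.fiber t)) (hC : IsClosed C)
    (c : q.fiber t) (hc : ∀ z ∈ C, c ⤳ z) (σ : LTSeries (IrreducibleCloseds C)) :
    σ.length ≤ e ∧ (fibPrime q g t c ≠ gen t → σ.length + 1 ≤ e) := by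
  have hcl : ∀ i, IsClosed (Subtype.val '' (σ i : Set C)) := fun i =>
    hC.isClosedEmbedding_subtypeVal.isClosedMap _ (σ i).isClosed
  have hirr : ∀ i, IsIrreducible (Subtype.val '' (σ i : Set C)) := fun i =>
    (σ i).isIrreducible.image _ continuous_subtype_val.continuousOn
  let ζ : Fin (σ.length + 1) → q.fiber t := fun i => (hirr i.rev).genericPoint
  have hζ : ∀ i, closure ({ζ i} : Set (q.fiber t)) = Subtype.val '' (σ i.rev : Set C) := fun i => by
    rw [(hirr i.rev).genericPoint_closure_eq, (hcl i.rev).closure_eq]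
  have hζC : ∀ i, ζ i ∈ C := fun i => by
    obtain ⟨a, -, ha⟩ := (hζ i).subset (subset_closure rfl)
    exact ha ▸ a.2
  let z : Fin (σ.length + 1) → PrimeSpectrum (MvPolynomial (ULift.{u} (Fin e)) (Y.residueField t)) :=
    fun i => fibPrime q g t (ζ i)
  have hz : ∀ i : Fin σ.length, z i.castSucc < z i.succ := fun i => by
    have hlt := σ.strictMono (show i.succ.rev < i.castSucc.rev by
      rw [Fin.rev_lt_rev]; exact Fin.castSucc_lt_succ)
    have hsp : ζ i.castSucc ⤳ ζ i.succ := specializes_iff_mem_closure.mpr (by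
      rw [hζ]
      exact Set.image_mono hlt.le ((hζ _).subset (subset_closure rfl)))
    refine lt_of_le_of_ne ((PrimeSpectrum.le_iff_specializes _ _).mpr (hsp.map (fibPrime q g t).continuous)) fun he => ?_
    have h2 := fibPrime_strict q g hgq t _ _ hsp he
    refine hlt.ne (IrreducibleCloseds.ext (Subtype.val_injective.image_injective ?_))
    rw [← hζ, ← hζ]; exact congrArg (fun x => closure {x}) h2.symm
  let l : LTSeries (PrimeSpectrum (MvPolynomial (ULift.{u} (Fin e)) (Y.residueField t))) :=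
    ⟨σ.length, z, hz⟩
  have hdim : ringKrullDim (MvPolynomial (ULift.{u} (Fin e)) (Y.residueField t)) = (e : ℕ) := by
    rw [MvPolynomial.ringKrullDim_of_isNoetherianRing, ringKrullDim_eq_zero_of_field]
    simp
  refine ⟨?_, fun hne => ?_⟩
  · have := (Order.LTSeries.length_le_krullDim l).trans hdim.le
    exact_mod_cast this
  · have hlt : (⟨⊥, Ideal.isPrime_bot⟩ : PrimeSpectrum _) < l.head := by
      refine lt_of_le_of_ne bot_le fun he => hne ?_
      have h1 : fibPrime q g t c ⤳ gen t := by
        have h2 : fibPrime q g t c ⤳ fibPrime q g t (ζ 0) := (hc _ (hζC 0)).map (fibPrime q g t).continuous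
        rw [show fibPrime q g t (ζ 0) = gen t from he.symm] at h2
        exact h2
      exact (h1.antisymm (gen_specializes t _)).eq
    have := (Order.LTSeries.length_le_krullDim (l.cons _ hlt)).trans hdim.le
    simp only [RelSeries.cons_length] at this
    exact_mod_cast this

include hgq in
set_option maxHeartbeats 1000000 in
/-- The closure of a point over the generic point has full dimension. -/
theorem le_dim [LocallyOfFiniteType q] (t : Y) (c : q.fiber t) (hc : fibPrime q g t c = gen t) :
    (e : WithBot ℕ∞) ≤ topologicalKrullDim ↥(closure ({c} : Set (q.fiber t))) := by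
  obtain ⟨W, hW, hcW, -⟩ := exists_isAffineOpen_mem_and_subset (X := q.fiber t) (U := ⊤) (x := c) trivial
  obtain ⟨P', hP'⟩ := hW.range_fromSpec.superset hcW
  let P : PrimeSpectrum Γ(q.fiber t, W) := P'
  replace hP' : hW.fromSpec P = c := hP'
  haveI := P.2
  let D := Γ(q.fiber t, W) ⧸ P.asIdeal
  let π : Γ(q.fiber t, W) →+* D := Ideal.Quotient.mk P.asIdeal
  let j : Spec (CommRingCat.of D) ⟶ q.fiber t := Spec.map (CommRingCat.ofHom π) ≫ hW.fromSpec
  haveI : IsClosedImmersion (Spec.map (CommRingCat.ofHom π)) :=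
    IsClosedImmersion.spec_of_surjective _ Ideal.Quotient.mk_surjective
  haveI : LocallyOfFiniteType (q.fiberToSpecResidueField t) :=
    MorphismProperty.pullback_snd (P := @LocallyOfFiniteType) _ _ inferInstance
  have hjbot : j (⟨⊥, Ideal.isPrime_bot⟩ : PrimeSpectrum D) = c := by
    rw [← hP']
    refine congrArg hW.fromSpec (PrimeSpectrum.ext ?_)
    exact Ideal.mk_ker
  let φ := Spec.preimage (j ≫ fibPrime q g t)
  have hφ : Spec.map φ = j ≫ fibPrime q g t := Spec.map_preimage _
  have hinj : Function.Injective φ.hom := by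
    rw [injective_iff_map_eq_zero]
    intro a ha
    have h1 : Spec.map φ (⟨⊥, Ideal.isPrime_bot⟩ : PrimeSpectrum D) = gen t := by
      rw [hφ]
      show fibPrime q g t (j _) = _
      rw [hjbot, hc]
    have h2 : a ∈ (PrimeSpectrum.comap φ.hom (⟨⊥, Ideal.isPrime_bot⟩ : PrimeSpectrum D)).asIdeal := by
      show φ.hom a ∈ (⊥ : Ideal D)
      rw [ha]; exact Ideal.zero_mem _
    rw [show PrimeSpectrum.comap φ.hom (⟨⊥, Ideal.isPrime_bot⟩ : PrimeSpectrum D) = gen t from h1] at h2
    exact Ideal.mem_bot.mp h2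
  letI : Algebra (Y.residueField t) D := (φ.hom.comp MvPolynomial.C).toAlgebra
  haveI : Algebra.FiniteType (Y.residueField t) D := by
    refine (HasRingHomProperty.Spec_iff (P := @LocallyOfFiniteType)
      (φ := CommRingCat.ofHom (φ.hom.comp MvPolynomial.C))).mp ?_
    have : Spec.map (CommRingCat.ofHom (φ.hom.comp MvPolynomial.C)) = j ≫ q.fiberToSpecResidueField t := by
      rw [CommRingCat.ofHom_comp, CommRingCat.ofHom_hom, Spec.map_comp, hφ, fibPrime,
        ← AffineSpace.SpecIso_inv_over]
      simp only [Category.assoc, Iso.hom_inv_id_assoc, fibHom]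
      exact congrArg (j ≫ ·) (AffineSpace.homOfVector_over _ _)
    rw [this]
    infer_instance
  let ψ : MvPolynomial (ULift.{u} (Fin e)) (Y.residueField t) →ₐ[Y.residueField t] D :=
    { φ.hom with commutes' := fun _ => rfl }
  obtain ⟨s, hs, hst⟩ := exists_trdeg (Y.residueField t) D
  have hes : e ≤ s := by
    have h := trdeg_le_of_injective ψ hinj
    rw [MvPolynomial.trdeg_of_isDomain, hst] at h
    simpa using h
  refine le_trans (Nat.cast_le.mpr hes) ?_
  rw [← hs, ← PrimeSpectrum.topologicalKrullDim_eq_ringKrullDim]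
  refine IsInducing.topologicalKrullDim_le (f := fun P' => ⟨j P', ?_⟩) ?_
  · rw [← hjbot]
    refine Specializes.mem_closure (Specializes.map ?_ j.continuous)
    exact (PrimeSpectrum.le_iff_specializes _ _).mp bot_le
  · exact j.isEmbedding.isInducing.codRestrict _

end fib

end Groth.Agent.Equidim.AffineParam
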