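import Mathlib
import Groth.Prelude.Def_EGA43
import Groth.Agent.Equidim.AffineParam
import Groth.Agent.Mor.OpenGen

set_option autoImplicit false
set_option backward.isDefEq.respectTransparency false
universe u
open CategoryTheory AlgebraicGeometry TopologicalSpace Topology Limits

namespace Groth.Agent.Equidim.AffineCrit
open AffineParam

/-- A point above `z` maximal under generization. -/
theorem exists_maximal_above {S : Type u} [TopologicalSpace S] [QuasiSober S] [T0Space S] (z : S) :
    ∃ g, g ⤳ z ∧ ∀ p, p ⤳ g → p = g := by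
  let h := irreducibleComponent_mem_irreducibleComponents z
  have hc : IsClosed (irreducibleComponent z) := isClosed_irreducibleComponent
  let g := h.1.genericPoint
  have hg : closure ({g} : Set S) = irreducibleComponent z := by rw [h.1.genericPoint_closure_eq, hc.closure_eq]
  refine ⟨g, specializes_iff_mem_closure.mpr (hg ▸ mem_irreducibleComponent), fun p hp => ?_⟩
  have hle : irreducibleComponent z ⊆ closure {p} := by
    rw [← hg]; exact closure_minimal (Set.singleton_subset_iff.mpr hp.mem_closure) isClosed_closure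
  have h2 : p ∈ irreducibleComponent z := h.2 isIrreducible_singleton.closure hle (subset_closure rfl)
  rw [← hg] at h2
  exact (hp.antisymm (specializes_iff_mem_closure.mpr h2)).eq

/-- The generic point of a component is maximal. -/
theorem genericPoint_maximal {S : Type u} [TopologicalSpace S] [QuasiSober S] [T0Space S] {Z : Set S}
    (hZ : Z ∈ irreducibleComponents S) (p : S) (hp : p ⤳ hZ.1.genericPoint) : p = hZ.1.genericPoint := by
  have hg : closure ({hZ.1.genericPoint} : Set S) = Z := by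
    rw [hZ.1.genericPoint_closure_eq, (isClosed_of_mem_irreducibleComponents Z hZ).closure_eq]
  have hle : Z ⊆ closure {p} := by
    rw [← hg]; exact closure_minimal (Set.singleton_subset_iff.mpr hp.mem_closure) isClosed_closure
  have h2 : p ∈ Z := hZ.2 isIrreducible_singleton.closure hle (subset_closure rfl)
  rw [← hg] at h2
  exact (hp.antisymm (specializes_iff_mem_closure.mpr h2)).eq

theorem closure_image_component {S T : Type u} [TopologicalSpace S] [QuasiSober S] [TopologicalSpace T]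
    {φ : S → T} (hφ : Continuous φ) {Z : Set S} (hZ : Z ∈ irreducibleComponents S) :
    closure (φ '' Z) = closure {φ hZ.1.genericPoint} := by
  have hg : closure ({hZ.1.genericPoint} : Set S) = Z := by
    rw [hZ.1.genericPoint_closure_eq, (isClosed_of_mem_irreducibleComponents Z hZ).closure_eq]
  refine le_antisymm (closure_minimal ?_ isClosed_closure) (closure_mono ?_)
  · refine (Set.image_mono hg.ge).trans ((image_closure_subset_closure_image hφ).trans ?_)
    rw [Set.image_singleton]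
  · exact Set.singleton_subset_iff.mpr ⟨_, hg.subset (subset_closure rfl), rfl⟩

section
variable {X Y : Scheme.{u}} (f : X ⟶ Y) [LocallyOfFiniteType f]

/-- Every closed irreducible subset of a fibre bounds the local dimension from below. -/
theorem le_localDim (t : Y) (C : Set ↥(f.fiber t)) (hC : IsIrreducible C) (hCc : IsClosed C)
    (z : ↥(f.fiber t)) (hz : z ∈ C) :
    topologicalKrullDim C ≤ FlatMor.localDim ↥(f.fiber t) z := by
  haveI : LocallyOfFiniteType (f.fiberToSpecResidueField t) :=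
    MorphismProperty.pullback_snd (P := @LocallyOfFiniteType) _ _ inferInstance
  exact le_iInf fun O => (GenDim.dim_le_inter (f.fiberToSpecResidueField t) C hC hCc O.1 z hz O.2).trans
    (dim_le_of_range (φ := fun s : ↥(C ∩ (O.1 : Set ↥(f.fiber t))) => (s : ↥(f.fiber t)))
      IsInducing.subtypeVal IsEmbedding.subtypeVal fun s => ⟨⟨s.1, s.2.2⟩, rfl⟩)

/-- At the generic point of a component of a fibre the local dimension is at most that of the component. -/
theorem localDim_le_component (t : Y) (c : ↥(f.fiber t)) (hc : ∀ p, p ⤳ c → p = c) :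
    FlatMor.localDim ↥(f.fiber t) c ≤ topologicalKrullDim ↥(closure ({c} : Set ↥(f.fiber t))) := by
  haveI : LocallyOfFiniteType (f.fiberToSpecResidueField t) :=
    MorphismProperty.pullback_snd (P := @LocallyOfFiniteType) _ _ inferInstance
  haveI : IsLocallyNoetherian (f.fiber t) :=
    LocallyOfFiniteType.isLocallyNoetherian (f.fiberToSpecResidueField t)
  obtain ⟨O, hcO, hO⟩ := exists_nhd_gen c
  refine (TopDim.Basic.localDim_le c O hcO).trans ?_
  refine dim_le_of_range (φ := fun s : (O : Set ↥(f.fiber t)) => (s : ↥(f.fiber t))) IsInducing.subtypeVal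
    IsEmbedding.subtypeVal fun s => ?_
  obtain ⟨g, hgs, hgmax⟩ := exists_maximal_above (s : ↥(f.fiber t))
  have hgc : g = c := hc g (hO g (hgs.mem_open O.isOpen s.2) hgmax)
  exact ⟨⟨s.1, (hgc ▸ hgs).mem_closure⟩, rfl⟩

variable {e : ℕ}

/-- b) ⇒ a), after shrinking. -/
theorem isEquidimAt_of_param (x : X) (U : X.Opens) (hxU : x ∈ U) (g : (U : Scheme.{u}) ⟶ 𝔸(ULift.{u} (Fin e); Y))
    (hgq : g ≫ (𝔸(ULift.{u} (Fin e); Y) ↘ Y) = U.ι ≫ f) [LocallyQuasiFinite g]
    (hgen : ∀ ξ : (U : Scheme.{u}), (∀ p, p ⤳ ξ → p = ξ) → U.ι ξ ⤳ x ∧ ∀ z, z ⤳ g ξ → z = g ξ) :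
    EGA43.IsEquidimAt f x := by
  let q := U.ι ≫ f
  haveI : QuasiSober (↥U : Type u) := U.2.isOpenEmbedding_subtypeVal.quasiSober
  have hmax : ∀ ξ : (U : Scheme.{u}), (∀ p, p ⤳ ξ → p = ξ) → ∀ s, s ⤳ q ξ → s = q ξ := fun ξ hξ s hs => by
    have hπ : (𝔸(ULift.{u} (Fin e); Y) ↘ Y) (g ξ) = q ξ := congrArg (fun h : (U : Scheme.{u}) ⟶ Y => h ξ) hgq
    obtain ⟨z, hz, hzs⟩ := Mor.OpenGen.generalizingMap_of_isOpenMap _
      (AffineSpace.isOpenMap_over (n := ULift.{u} (Fin e)) Y) (hπ.symm ▸ hs)
    rw [← hzs, (hgen ξ hξ).2 z hz, hπ]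
  refine ⟨e, U, hxU, fun Z hZ => ?_, fun a Z hZ => ?_⟩
  · let Zg : (U : Scheme.{u}) := hZ.1.genericPoint
    have hZmax : ∀ p : (U : Scheme.{u}), p ⤳ Zg → p = Zg := fun p hp => genericPoint_maximal hZ p hp
    refine ⟨closure {q Zg}, closure_mem_irreducibleComponents _ (hmax Zg hZmax), ?_, ?_⟩
    · exact ((hgen Zg hZmax).1.map f.continuous).mem_closure
    · exact closure_image_component (φ := q.base) q.continuous hZ
  · haveI : LocallyOfFiniteType (q.fiberToSpecResidueField (q a)) :=
      MorphismProperty.pullback_snd (P := @LocallyOfFiniteType) _ _ inferInstance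
    have hZc := isClosed_of_mem_irreducibleComponents Z hZ
    let c := hZ.1.genericPoint
    have hc : closure ({c} : Set _) = Z := by rw [hZ.1.genericPoint_closure_eq, hZc.closure_eq]
    refine le_antisymm (TopDim.Basic.dim_le fun σ => ?_) ?_
    · exact Nat.cast_le.mpr (length_le q g hgq (q a) Z hZc c
        (fun z hz => specializes_iff_mem_closure.mpr (hc.symm.subset hz)) σ).1
    · obtain ⟨ξ, hξc, hξmax⟩ := exists_maximal_above (q.fiberι (q a) c)
      obtain ⟨c₀, hc₀⟩ : ξ ∈ Set.range (q.fiberι (q ξ)) := by rw [q.range_fiberι]; rfl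
      have h1 : (e : WithBot ℕ∞) ≤ FlatMor.fibreDimAt q ξ := by
        rw [← localDim_fiber_eq q _ c₀ ξ hc₀]
        refine le_trans ?_ (le_localDim q _ _ isIrreducible_singleton.closure isClosed_closure c₀ (subset_closure rfl))
        refine le_dim q g hgq _ c₀ (fibPrime_eq_gen q g hgq _ c₀ ?_)
        rw [hc₀]; exact (hgen ξ hξmax).2
      have h2 : FlatMor.fibreDimAt q ξ ≤ FlatMor.fibreDimAt q (q.fiberι (q a) c) :=
        hξc.mem_open (isOpen_fibreDimAt_le q _) (le_refl (FlatMor.fibreDimAt q (q.fiberι (q a) c)))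
      refine h1.trans (h2.trans ?_)
      rw [← localDim_fiber_eq q _ c _ rfl, ← hc]
      exact localDim_le_component q _ c (genericPoint_maximal hZ)

set_option maxHeartbeats 1000000 in
/-- a) ⇒ b), with all of `X` in the role of the neighbourhood. -/
theorem exists_param (hdom : ∀ ξ : X, (∀ p, p ⤳ ξ → p = ξ) → ∀ s, s ⤳ f ξ → s = f ξ)
    (hfib : ∀ (a : X) (Z : Set ↥(f.fiber (f a))), Z ∈ irreducibleComponents ↥(f.fiber (f a)) →
      topologicalKrullDim Z = (e : ℕ)) (x : X) :
    ∃ (U : X.Opens) (g : (U : Scheme.{u}) ⟶ 𝔸(ULift.{u} (Fin e); Y)),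
      x ∈ U ∧ g ≫ (𝔸(ULift.{u} (Fin e); Y) ↘ Y) = U.ι ≫ f ∧ LocallyQuasiFinite g ∧
      ∀ Z ∈ irreducibleComponents (↥U : Type u),
        closure (g.base '' Z) ∈ irreducibleComponents (↥𝔸(ULift.{u} (Fin e); Y) : Type u) := by
  obtain ⟨U₀, hU₀, hyU₀, -⟩ := exists_isAffineOpen_mem_and_subset (X := Y) (U := ⊤) (x := f x) trivial
  obtain ⟨V, hV, hxV, hVU⟩ :=
    exists_isAffineOpen_mem_and_subset (X := X) (U := f ⁻¹ᵁ U₀) (x := x) hyU₀
  letI : Algebra Γ(Y, U₀) Γ(X, V) := (f.appLE U₀ V hVU).hom.toAlgebra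
  haveI : Algebra.FiniteType Γ(Y, U₀) Γ(X, V) := finiteType_chart f hU₀ hV hVU rfl
  obtain ⟨d, b, r, hd, hxr, H⟩ := exists_params_at f hU₀ hV hVU rfl x hxV
  obtain rfl : d = e := by
    refine le_antisymm ?_ ?_
    · have := hd.trans ((fibreDimAt_le_dim f x).trans (dim_le_of_components fun C hC => (hfib x C hC).le))
      exact_mod_cast this
    · have h1 := le_localDim f (f x) _ (irreducibleComponent_mem_irreducibleComponents (f.asFiber x)).1
        isClosed_irreducibleComponent (f.asFiber x) mem_irreducibleComponent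
      rw [hfib x _ (irreducibleComponent_mem_irreducibleComponents _)] at h1
      have := h1.trans (fibreDimAt_le_of_params f hU₀ hV hVU rfl b r H x hxr)
      exact_mod_cast this
  let R := Localization.Away r
  let j : Spec (CommRingCat.of R) ⟶ X :=
    Spec.map (CommRingCat.ofHom (algebraMap Γ(X, V) R)) ≫ hV.fromSpec
  haveI : IsOpenImmersion (Spec.map (CommRingCat.ofHom (algebraMap Γ(X, V) R))) :=
    IsOpenImmersion.of_isLocalization r
  let ψ : MvPolynomial (ULift.{u} (Fin d)) Γ(Y, U₀) →+* R :=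
    (algebraMap Γ(X, V) R).comp (MvPolynomial.aeval (fun i => b i.down) :
      MvPolynomial (ULift.{u} (Fin d)) Γ(Y, U₀) →ₐ[Γ(Y, U₀)] Γ(X, V)).toRingHom
  have hψC : ψ.comp MvPolynomial.C = (algebraMap Γ(X, V) R).comp (algebraMap Γ(Y, U₀) Γ(X, V)) := by
    refine RingHom.ext fun a => congrArg (algebraMap Γ(X, V) R) ?_
    exact MvPolynomial.aeval_C _ a
  have hψft : ψ.FiniteType := by
    refine RingHom.FiniteType.of_comp_finiteType (f := MvPolynomial.C) ?_
    rw [hψC]
    exact RingHom.FiniteType.comp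
      (RingHom.finiteType_algebraMap.mpr (IsLocalization.finiteType_of_monoid_fg (Submonoid.powers r) R))
      (RingHom.finiteType_algebraMap.mpr inferInstance)
  have hψqf : ψ.QuasiFinite := by
    letI := ψ.toAlgebra
    haveI : Algebra.FiniteType (MvPolynomial (ULift.{u} (Fin d)) Γ(Y, U₀)) R := hψft
    show Algebra.QuasiFinite _ R
    refine Algebra.QuasiFinite.iff_finite_comap_preimage_singleton.mpr fun p => ?_
    haveI : IsNoetherianRing (p.asIdeal.Fiber R) :=
      Algebra.FiniteType.isNoetherianRing p.asIdeal.ResidueField _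
    refine Set.finite_coe_iff.mp ?_
    rw [(PrimeSpectrum.preimageEquivFiber _ R p).finite_iff]
    refine Set.finite_univ_iff.mp (((minimalPrimes.finite_of_isNoetherianRing _).preimage
      (fun a _ b _ h => PrimeSpectrum.ext h)).subset fun M _ => ⟨⟨M.2, bot_le⟩, fun I hI hle => ?_⟩)
    let M' : PrimeSpectrum (p.asIdeal.Fiber R) := ⟨I, hI.1⟩
    let P := ((PrimeSpectrum.preimageOrderIsoFiber _ R p).symm M)
    let P' := ((PrimeSpectrum.preimageOrderIsoFiber _ R p).symm M')
    have hP : P' ≤ P := (PrimeSpectrum.preimageOrderIsoFiber _ R p).symm.monotone hle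
    suffices P' = P by
      have := (PrimeSpectrum.preimageOrderIsoFiber _ R p).symm.injective this
      rw [← this]
    refine Subtype.ext (PrimeSpectrum.localization_comap_injective R (Submonoid.powers r) (PrimeSpectrum.ext ?_))
    show P'.1.asIdeal.comap (algebraMap Γ(X, V) R) = P.1.asIdeal.comap (algebraMap Γ(X, V) R)
    let bA : MvPolynomial (Fin d) Γ(Y, U₀) →ₐ[Γ(Y, U₀)] Γ(X, V) := MvPolynomial.aeval b
    letI := bA.toRingHom.toAlgebra
    haveI hQP : (P.1.asIdeal.comap (algebraMap Γ(X, V) R)).IsPrime := inferInstance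
    haveI : Algebra.QuasiFiniteAt (MvPolynomial (Fin d) Γ(Y, U₀)) (P.1.asIdeal.comap (algebraMap Γ(X, V) R)) :=
      H ⟨_, hQP⟩ fun hr => P.1.2.ne_top (Ideal.eq_top_of_isUnit_mem _ hr
        (IsLocalization.map_units R (⟨r, Submonoid.mem_powers r⟩ : Submonoid.powers r)))
    refine Algebra.QuasiFiniteAt.eq_of_le_of_under_eq (R := MvPolynomial (Fin d) Γ(Y, U₀))
      (Ideal.comap_mono hP) ?_
    have hren : ψ.comp (MvPolynomial.rename (R := Γ(Y, U₀)) (ULift.up : Fin d → ULift.{u} (Fin d))).toRingHom =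
        (algebraMap Γ(X, V) R).comp bA.toRingHom := by
      refine RingHom.ext fun a => congrArg (algebraMap Γ(X, V) R) ?_
      exact MvPolynomial.aeval_rename _ _ a
    show (P'.1.asIdeal.comap (algebraMap Γ(X, V) R)).comap bA.toRingHom = (P.1.asIdeal.comap (algebraMap Γ(X, V) R)).comap bA.toRingHom
    rw [Ideal.comap_comap, Ideal.comap_comap, ← hren, ← Ideal.comap_comap, ← Ideal.comap_comap]
    exact congrArg (Ideal.comap _) ((congrArg PrimeSpectrum.asIdeal P'.2).trans (congrArg PrimeSpectrum.asIdeal P.2).symm)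
  haveI : LocallyQuasiFinite (Spec.map (CommRingCat.ofHom ψ)) :=
    (HasRingHomProperty.Spec_iff (P := @LocallyQuasiFinite)).mpr hψqf
  haveI : IsOpenImmersion (AffineSpace.map (ULift.{u} (Fin d)) hU₀.fromSpec) :=
    MorphismProperty.of_isPullback (AffineSpace.isPullback_map hU₀.fromSpec).flip inferInstance
  let g : (j.opensRange : Scheme.{u}) ⟶ 𝔸(ULift.{u} (Fin d); Y) :=
    j.isoOpensRange.inv ≫ Spec.map (CommRingCat.ofHom ψ) ≫
      (AffineSpace.SpecIso (ULift.{u} (Fin d)) Γ(Y, U₀)).inv ≫ AffineSpace.map _ hU₀.fromSpec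
  have hgq : g ≫ (𝔸(ULift.{u} (Fin d); Y) ↘ Y) = j.opensRange.ι ≫ f := by
    rw [← cancel_epi j.isoOpensRange.hom]
    simp only [g, Category.assoc, Iso.hom_inv_id_assoc, AffineSpace.map_over, AffineSpace.SpecIso_inv_over_assoc]
    rw [← Category.assoc, ← Spec.map_comp, ← CommRingCat.ofHom_comp, hψC, CommRingCat.ofHom_comp,
      Spec.map_comp, Category.assoc, Scheme.Hom.isoOpensRange_hom_ι_assoc]
    simp only [j, Category.assoc]
    rw [← IsAffineOpen.SpecMap_appLE_fromSpec f hU₀ hV hVU]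
    rfl
  haveI hgqf : LocallyQuasiFinite g := inferInstance
  refine ⟨j.opensRange, g, ?_, hgq, hgqf, fun Z hZ => ?_⟩
  · obtain ⟨Q', hQ'⟩ := hV.range_fromSpec.superset hxV
    let Q : PrimeSpectrum Γ(X, V) := Q'
    replace hQ' : hV.fromSpec Q = x := hQ'
    have hrQ : r ∉ Q.asIdeal :=
      (SetLike.ext_iff.mp (hV.fromSpec_preimage_basicOpen r) Q).mp (show hV.fromSpec Q ∈ X.basicOpen r by rw [hQ']; exact hxr)
    obtain ⟨P, hP⟩ : Q ∈ Set.range (PrimeSpectrum.comap (algebraMap Γ(X, V) R)) := by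
      rw [PrimeSpectrum.localization_away_comap_range R r]; exact hrQ
    exact ⟨P, by rw [← hQ', ← hP]; rfl⟩
  · let U := j.opensRange
    let q := U.ι ≫ f
    haveI : QuasiSober (↥U : Type u) := U.2.isOpenEmbedding_subtypeVal.quasiSober
    let ξ : (U : Scheme.{u}) := hZ.1.genericPoint
    have hξmax : ∀ p : (U : Scheme.{u}), p ⤳ ξ → p = ξ := fun p hp => genericPoint_maximal hZ p hp
    have hξX : ∀ p : X, p ⤳ U.ι ξ → p = U.ι ξ := fun p hp => by
      have hpU : p ∈ U := hp.mem_open U.isOpen (show U.ι ξ ∈ U from ξ.2)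
      exact congrArg U.ι (hξmax ⟨p, hpU⟩ (U.ι.isOpenEmbedding.isInducing.specializes_iff.mp hp))
    rw [closure_image_component (φ := g.base) g.continuous hZ]
    refine closure_mem_irreducibleComponents (g ξ) ?_
    obtain ⟨c, hc⟩ : ξ ∈ Set.range (q.fiberι (q ξ)) := by rw [q.range_fiberι]; rfl
    rw [← hc]
    refine maximal_image q g hgq _ (hdom _ hξX) c (by_contra fun hne => ?_)
    obtain ⟨c', hc'⟩ : U.ι ξ ∈ Set.range (f.fiberι (q ξ)) := by rw [f.range_fiberι]; rfl
    haveI : LocallyOfFiniteType (f.fiberToSpecResidueField (q ξ)) :=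
      MorphismProperty.pullback_snd (P := @LocallyOfFiniteType) _ _ inferInstance
    have hcomp := closure_mem_irreducibleComponents c' fun p hp => (f.fiberι _).isEmbedding.injective
      (hc'.symm ▸ hξX _ (hc' ▸ hp.map (f.fiberι _).continuous))
    have hκ : IsEmbedding (fun b => U.ι (q.fiberι (q ξ) b)) :=
      U.ι.isOpenEmbedding.isEmbedding.comp (q.fiberι (q ξ)).isEmbedding
    let O : Opens ↥(f.fiber (q ξ)) := ⟨f.fiberι (q ξ) ⁻¹' U, U.isOpen.preimage (f.fiberι _).continuous⟩
    have hc'O : c' ∈ O := by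
      show f.fiberι (q ξ) c' ∈ U
      rw [hc']; exact ξ.2
    have hle : (d : WithBot ℕ∞) ≤ topologicalKrullDim ↥(closure ({c} : Set ↥(q.fiber (q ξ)))) := by
      rw [← hfib (U.ι ξ) _ hcomp]
      refine (GenDim.dim_le_inter (f.fiberToSpecResidueField _) _ hcomp.1 isClosed_closure O c'
        (subset_closure rfl) hc'O).trans ?_
      refine dim_le_of_range (φ := fun s : ↥(closure ({c'} : Set _) ∩ (O : Set ↥(f.fiber (q ξ)))) => f.fiberι (q ξ) s)
        ((f.fiberι _).isEmbedding.isInducing.comp IsInducing.subtypeVal)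
        (g := fun b : ↥(closure ({c} : Set ↥(q.fiber (q ξ)))) => U.ι (q.fiberι (q ξ) b))
        (hκ.comp IsEmbedding.subtypeVal) fun s => ?_
      obtain ⟨b', hb'⟩ : (⟨f.fiberι (q ξ) s, s.2.2⟩ : U) ∈ Set.range (q.fiberι (q ξ)) := by
        rw [q.range_fiberι]
        exact (f.range_fiberι (q ξ)).subset ⟨s.1, rfl⟩
      refine ⟨⟨b', specializes_iff_mem_closure.mp (hκ.isInducing.specializes_iff.mp ?_)⟩, congrArg U.ι hb'⟩
      show U.ι (q.fiberι _ c) ⤳ U.ι (q.fiberι _ b')
      rw [hc, hb', ← hc']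
      exact (specializes_iff_mem_closure.mpr s.2.1).map (f.fiberι _).continuous
    obtain ⟨σ, hσ⟩ := Order.le_krullDim_iff.mp hle
    have := (length_le q g hgq _ _ isClosed_closure c (fun z hz => specializes_iff_mem_closure.mpr hz) σ).2 hne
    omega

end

/-- The criterion. -/
theorem main {X Y : Scheme.{u}} (f : X ⟶ Y) [LocallyOfFiniteType f] (x : X) :
    (EGA43.IsEquidimAt f x → (∃ (e : ℕ) (U : X.Opens) (g : (U : Scheme.{u}) ⟶ 𝔸(ULift.{u} (Fin e); Y)),
        x ∈ U ∧ g ≫ (𝔸(ULift.{u} (Fin e); Y) ↘ Y) = U.ι ≫ f ∧ LocallyQuasiFinite g ∧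
        ∀ Z ∈ irreducibleComponents (↥U : Type u),
          closure (g.base '' Z) ∈ irreducibleComponents (↥𝔸(ULift.{u} (Fin e); Y) : Type u))) ∧
    (IsLocallyNoetherian Y → (∃ (e : ℕ) (U : X.Opens) (g : (U : Scheme.{u}) ⟶ 𝔸(ULift.{u} (Fin e); Y)),
        x ∈ U ∧ g ≫ (𝔸(ULift.{u} (Fin e); Y) ↘ Y) = U.ι ≫ f ∧ LocallyQuasiFinite g ∧
        ∀ Z ∈ irreducibleComponents (↥U : Type u),
          closure (g.base '' Z) ∈ irreducibleComponents (↥𝔸(ULift.{u} (Fin e); Y) : Type u)) → EGA43.IsEquidimAt f x) := by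
  refine ⟨?_, ?_⟩
  · rintro ⟨e, U₀, hxU₀, hcomp, hfib⟩
    haveI : QuasiSober (↥U₀ : Type u) := U₀.2.isOpenEmbedding_subtypeVal.quasiSober
    obtain ⟨U, g, hxU, hgq, hqf, hg⟩ := exists_param (U₀.ι ≫ f) (fun ξ hξ s hs => by
      obtain ⟨W, hW, -, hWc⟩ := hcomp _ (closure_mem_irreducibleComponents ξ hξ)
      have h1 : closure ({(U₀.ι ≫ f) ξ} : Set Y) = W := by
        rw [← hWc]
        refine le_antisymm (closure_mono ?_) (closure_minimal ?_ isClosed_closure)
        · exact Set.singleton_subset_iff.mpr ⟨ξ, subset_closure rfl, rfl⟩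
        · refine (image_closure_subset_closure_image (U₀.ι ≫ f).continuous).trans ?_
          rw [Set.image_singleton]
      have hle : W ⊆ closure {s} := by
        rw [← h1]; exact closure_minimal (Set.singleton_subset_iff.mpr hs.mem_closure) isClosed_closure
      have h2 : s ∈ W := hW.2 isIrreducible_singleton.closure hle (subset_closure rfl)
      rw [← h1] at h2
      exact (hs.antisymm (specializes_iff_mem_closure.mpr h2)).eq) hfib ⟨x, hxU₀⟩
    refine ⟨e, U₀.ι ''ᵁ U, (U₀.ι.isoImage U).inv ≫ g, ⟨_, hxU, rfl⟩, ?_, inferInstance, fun Z hZ => ?_⟩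
    · rw [Category.assoc, hgq, Scheme.Hom.isoImage_inv_ι_assoc]
    · haveI : QuasiSober (↥(U₀.ι ''ᵁ U) : Type u) := (U₀.ι ''ᵁ U).2.isOpenEmbedding_subtypeVal.quasiSober
      haveI : QuasiSober (↥U : Type u) := U.2.isOpenEmbedding_subtypeVal.quasiSober
      let i := (U₀.ι.isoImage U).inv
      let ξ : ((U₀.ι ''ᵁ U : X.Opens) : Scheme.{u}) := hZ.1.genericPoint
      rw [closure_image_component (φ := (i ≫ g).base) (i ≫ g).continuous hZ]
      have hξ : ∀ p, p ⤳ i ξ → p = i ξ := fun p hp => by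
        obtain ⟨a, rfl⟩ := i.surjective p
        exact congrArg i (genericPoint_maximal hZ a (i.isEmbedding.isInducing.specializes_iff.mp hp))
      have h1 := hg _ (closure_mem_irreducibleComponents (i ξ) hξ)
      convert h1 using 1
      refine le_antisymm (closure_mono ?_) (closure_minimal ?_ isClosed_closure)
      · exact Set.singleton_subset_iff.mpr ⟨i ξ, subset_closure rfl, rfl⟩
      · refine (image_closure_subset_closure_image g.continuous).trans ?_
        rw [Set.image_singleton]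
        rfl
  · rintro hY ⟨e, U, g, hxU, hgq, hqf, hg⟩
    haveI := hY
    haveI : IsLocallyNoetherian X := LocallyOfFiniteType.isLocallyNoetherian f
    haveI : IsLocallyNoetherian (U : Scheme.{u}) := LocallyOfFiniteType.isLocallyNoetherian (U.ι ≫ f)
    obtain ⟨O, hxO, hO⟩ := exists_nhd_gen (X := (U : Scheme.{u})) (⟨x, hxU⟩ : U)
    let U' := U.ι ''ᵁ O
    let i : (U' : Scheme.{u}) ⟶ U := (U.ι.isoImage O).inv ≫ O.ι
    refine isEquidimAt_of_param f x U' ⟨_, hxO, rfl⟩ (i ≫ g) ?_ fun ξ hξ => ?_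
    · rw [Category.assoc, hgq, Category.assoc, Scheme.Hom.isoImage_inv_ι_assoc]
    · have hiξ : i ξ ∈ O := ((U.ι.isoImage O).inv ξ).2
      have hmax : ∀ p, p ⤳ i ξ → p = i ξ := fun p hp => by
        obtain ⟨a, rfl⟩ : p ∈ Set.range i := by
          obtain ⟨a, ha⟩ := (U.ι.isoImage O).inv.surjective ⟨p, hp.mem_open O.isOpen hiξ⟩
          exact ⟨a, congrArg O.ι ha⟩
        exact congrArg i (hξ a (i.isEmbedding.isInducing.specializes_iff.mp hp))
      refine ⟨?_, ?_⟩
      · have h1 := (hO (i ξ) hiξ hmax).map U.ι.continuous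
        have h2 : U.ι (i ξ) = U'.ι ξ := by
          show (i ≫ U.ι) ξ = _
          rw [Category.assoc, Scheme.Hom.isoImage_inv_ι]
        rw [← h2]; exact h1
      · haveI : QuasiSober (↥U : Type u) := U.2.isOpenEmbedding_subtypeVal.quasiSober
        have hcl := hg _ (closure_mem_irreducibleComponents (i ξ) hmax)
        have h1 : closure (g.base '' closure {i ξ}) = closure {g (i ξ)} := by
          refine le_antisymm (closure_minimal ?_ isClosed_closure) (closure_mono ?_)
          · refine (image_closure_subset_closure_image g.continuous).trans ?_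
            rw [Set.image_singleton]
          · exact Set.singleton_subset_iff.mpr ⟨_, subset_closure rfl, rfl⟩
        rw [h1] at hcl
        intro z hz
        have h2 : z ∈ closure ({g (i ξ)} : Set _) := hcl.2 isIrreducible_singleton.closure
          (closure_minimal (Set.singleton_subset_iff.mpr hz.mem_closure) isClosed_closure) (subset_closure rfl)
        exact (hz.antisymm (specializes_iff_mem_closure.mpr h2)).eq

end Groth.Agent.Equidim.AffineCrit
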