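import Mathlib
import Groth.Agent.Equidim.AffineCrit

set_option autoImplicit false
set_option backward.isDefEq.respectTransparency false
universe u
open CategoryTheory AlgebraicGeometry TopologicalSpace Topology Limits

namespace Groth.Agent.Equidim.FlatBaseChange

/-- Generizations in a base change lift when they stay over one point of the original target. -/
theorem exists_lift {S S' U U' : Scheme.{u}} {pr : U' ⟶ U} {g' : U' ⟶ S'} {g : U ⟶ S} {ψ : S' ⟶ S}
    (sq : IsPullback pr g' g ψ) (u' : U') (z : S') (hz : z ⤳ g' u') (hψ : ψ z = ψ (g' u')) :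
    ∃ w, w ⤳ u' ∧ g' w = z := by
  let fs := S.fromSpecResidueField (ψ (g' u'))
  let i := pullback.fst ψ fs
  let sT := pullback.snd ψ fs
  haveI : Subsingleton ↥(Spec (S.residueField (ψ (g' u')))) :=
    inferInstanceAs (Subsingleton (PrimeSpectrum (S.residueField (ψ (g' u')))))
  haveI hh : UniversallyOpen (pullback.snd g fs) := Mor.OpenGen.universallyOpen_of_subsingleton _
  have sq1 := IsPullback.of_hasPullback g' i
  have h2 : IsPullback (pullback.snd g' i) (pullback.fst g' i ≫ pr) (sT ≫ fs) g := by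
    have h := (sq1.paste_horiz sq).flip
    rwa [show i ≫ ψ = sT ≫ fs from pullback.condition] at h
  have h3 := IsPullback.of_bot' h2 (IsPullback.of_hasPullback g fs).flip
  haveI : UniversallyOpen (pullback.snd g' i) := MorphismProperty.of_isPullback h3.flip hh
  have hrange : ∀ a : S', ψ a = ψ (g' u') → a ∈ Set.range i := fun a ha => by
    rw [Scheme.Pullback.range_fst, Scheme.range_fromSpecResidueField]
    exact ha
  obtain ⟨z₀, hz₀⟩ := hrange z hψ
  obtain ⟨t₀, ht₀⟩ : u' ∈ Set.range (pullback.fst g' i) := by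
    rw [Scheme.Pullback.range_fst]
    exact hrange _ rfl
  have hc : ∀ a, i (pullback.snd g' i a) = g' (pullback.fst g' i a) := fun a => by
    show (pullback.snd g' i ≫ i) a = (pullback.fst g' i ≫ g') a
    rw [pullback.condition]
  have hsp : z₀ ⤳ pullback.snd g' i t₀ := i.isEmbedding.isInducing.specializes_iff.mp (by
    rw [hz₀, hc, ht₀]; exact hz)
  obtain ⟨w₀, hw₀, hw₀z⟩ :=
    Mor.OpenGen.generalizingMap_of_isOpenMap _ (pullback.snd g' i).isOpenMap hsp
  refine ⟨pullback.fst g' i w₀, (hw₀.map (pullback.fst g' i).continuous).trans (specializes_of_eq ht₀), ?_⟩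
  rw [← hc, hw₀z, hz₀]

open AffineCrit AffineParam

set_option maxHeartbeats 1000000 in
theorem main {X Y Y' : Scheme.{u}} (f : X ⟶ Y) [LocallyOfFiniteType f] (g : Y' ⟶ Y) [Flat g]
    [IsLocallyNoetherian Y'] (x : X) (h : EGA43.IsEquidimAt f x) (x' : ↥(pullback f g))
    (hx' : (pullback.fst f g).base x' = x) : EGA43.IsEquidimAt (pullback.snd f g) x' := by
  obtain ⟨e, U, g₀, hxU, hgq, hqf, hg⟩ := (AffineCrit.main f x).1 h
  haveI := hqf
  haveI : IsLocallyNoetherian (pullback f g) := LocallyOfFiniteType.isLocallyNoetherian (pullback.snd f g)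
  let pr := pullback.fst f g
  let sn := pullback.snd f g
  let U₁ := pr ⁻¹ᵁ U
  haveI : IsLocallyNoetherian (U₁ : Scheme.{u}) := LocallyOfFiniteType.isLocallyNoetherian (U₁.ι ≫ sn)
  let g₁ : (U₁ : Scheme.{u}) ⟶ 𝔸(ULift.{u} (Fin e); Y') :=
    AffineSpace.homOfVector (U₁.ι ≫ sn) fun i => (pr ∣_ U ≫ g₀).appTop (AffineSpace.coord Y i)
  let π' := 𝔸(ULift.{u} (Fin e); Y') ↘ Y'
  have hg₁ : g₁ ≫ π' = U₁.ι ≫ sn := AffineSpace.homOfVector_over _ _
  have outer : IsPullback (pr ∣_ U) (U₁.ι ≫ sn) (U.ι ≫ f) g :=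
    (isPullback_morphismRestrict pr U).paste_vert (IsPullback.of_hasPullback f g)
  have hcomm : (pr ∣_ U) ≫ g₀ = g₁ ≫ AffineSpace.map _ g := by
    refine AffineSpace.hom_ext ?_ fun i => ?_
    · rw [Category.assoc, hgq, Category.assoc, AffineSpace.map_over, ← Category.assoc g₁, hg₁]
      exact outer.w
    · rw [Scheme.Hom.comp_appTop g₁, CommRingCat.comp_apply, AffineSpace.map_appTop_coord]
      exact (AffineSpace.homOfVector_appTop_coord (U₁.ι ≫ sn)
        (fun i => (pr ∣_ U ≫ g₀).appTop (AffineSpace.coord Y i)) i).symm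
  have sq : IsPullback (pr ∣_ U) g₁ g₀ (AffineSpace.map _ g) :=
    IsPullback.of_bot (v₂₁ := π') (v₂₂ := 𝔸(ULift.{u} (Fin e); Y) ↘ Y)
      (by rw [hg₁, hgq]; exact outer) hcomm (AffineSpace.isPullback_map g)
  haveI : LocallyQuasiFinite g₁ := MorphismProperty.of_isPullback sq hqf
  haveI : Flat (pr ∣_ U) := MorphismProperty.of_isPullback outer.flip ‹Flat g›
  haveI : Flat (AffineSpace.map (ULift.{u} (Fin e)) g) :=
    MorphismProperty.of_isPullback (AffineSpace.isPullback_map g).flip ‹Flat g›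
  have hxU₁ : x' ∈ U₁ := by
    show pr x' ∈ U
    rw [show pr x' = x from hx']; exact hxU
  obtain ⟨O, hxO, hO⟩ := exists_nhd_gen (X := (U₁ : Scheme.{u})) (⟨x', hxU₁⟩ : U₁)
  let i : ((U₁.ι ''ᵁ O : (pullback f g).Opens) : Scheme.{u}) ⟶ U₁ := (U₁.ι.isoImage O).inv ≫ O.ι
  refine isEquidimAt_of_param sn x' (U₁.ι ''ᵁ O) ⟨_, hxO, rfl⟩ (i ≫ g₁) ?_ fun ξ hξ => ?_
  · show (i ≫ g₁) ≫ π' = _
    rw [Category.assoc, hg₁, Category.assoc, Scheme.Hom.isoImage_inv_ι_assoc]
  · have hiξ : i ξ ∈ O := ((U₁.ι.isoImage O).inv ξ).2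
    have hmax : ∀ p, p ⤳ i ξ → p = i ξ := fun p hp => by
      obtain ⟨a, rfl⟩ : p ∈ Set.range i := by
        obtain ⟨a, ha⟩ := (U₁.ι.isoImage O).inv.surjective ⟨p, hp.mem_open O.isOpen hiξ⟩
        exact ⟨a, congrArg O.ι ha⟩
      exact congrArg i (hξ a (i.isEmbedding.isInducing.specializes_iff.mp hp))
    refine ⟨?_, fun z hz => ?_⟩
    · have h1 := (hO (i ξ) hiξ hmax).map U₁.ι.continuous
      have h2 : U₁.ι (i ξ) = (U₁.ι ''ᵁ O).ι ξ := by
        show (i ≫ U₁.ι) ξ = _
        rw [Category.assoc, Scheme.Hom.isoImage_inv_ι]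
      rw [← h2]; exact h1
    · let v : (U : Scheme.{u}) := (pr ∣_ U) (i ξ)
      have hv : ∀ p, p ⤳ v → p = v := fun p hp => by
        obtain ⟨w, hw, rfl⟩ := Flat.generalizingMap (pr ∣_ U) hp
        exact congrArg _ (hmax w hw)
      haveI : QuasiSober (↥U : Type u) := U.2.isOpenEmbedding_subtypeVal.quasiSober
      have hcl := hg _ (closure_mem_irreducibleComponents v hv)
      have h1 : closure (g₀.base '' closure {v}) = closure {g₀ v} := by
        refine le_antisymm (closure_minimal ?_ isClosed_closure) (closure_mono ?_)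
        · refine (image_closure_subset_closure_image g₀.continuous).trans ?_
          rw [Set.image_singleton]
        · exact Set.singleton_subset_iff.mpr ⟨_, subset_closure rfl, rfl⟩
      rw [h1] at hcl
      have hpt : AffineSpace.map _ g (g₁ (i ξ)) = g₀ v :=
        congrArg (fun k : (U₁ : Scheme.{u}) ⟶ 𝔸(ULift.{u} (Fin e); Y) => k (i ξ)) hcomm.symm
      have hzv : AffineSpace.map _ g z ⤳ g₀ v := hpt ▸ hz.map (AffineSpace.map _ g).continuous
      have hz2 : AffineSpace.map _ g z = g₀ v := by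
        have h2 : AffineSpace.map _ g z ∈ closure ({g₀ v} : Set _) := hcl.2 isIrreducible_singleton.closure
          (closure_minimal (Set.singleton_subset_iff.mpr hzv.mem_closure) isClosed_closure) (subset_closure rfl)
        exact (hzv.antisymm (specializes_iff_mem_closure.mpr h2)).eq
      obtain ⟨w, hw, rfl⟩ := exists_lift sq (i ξ) z hz (hz2.trans hpt.symm)
      exact congrArg g₁ (hmax w hw)

end Groth.Agent.Equidim.FlatBaseChange
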