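import Mathlib
import Groth.Agent.Equidim.Scheme

set_option autoImplicit false
set_option backward.isDefEq.respectTransparency false
universe u
open CategoryTheory AlgebraicGeometry TopologicalSpace Topology

namespace Groth.Agent.Equidim

/-- A closed subset containing no generic point of a component has dimension one less. -/
theorem dim_add_one_le {S : Type u} [TopologicalSpace S] [QuasiSober S] (T : Set S) (hT : IsClosed T)
    (hmax : ∀ s : S, (∀ s' : S, s' ⤳ s → s ⤳ s') → s ∉ T) :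
    topologicalKrullDim T + 1 ≤ topologicalKrullDim S := by
  have key : ∀ σ : LTSeries (IrreducibleCloseds T), ((σ.length + 1 : ℕ) : WithBot ℕ∞) ≤ topologicalKrullDim S := by
    intro σ
    let F : IrreducibleCloseds T → IrreducibleCloseds S := fun Z =>
      ⟨Subtype.val '' (Z : Set T), Z.isIrreducible.image _ continuous_subtype_val.continuousOn,
        hT.isClosedEmbedding_subtypeVal.isClosedMap _ Z.isClosed⟩
    have hF : StrictMono F := fun a b h => lt_of_le_of_ne (Set.image_mono h.le) fun e =>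
      h.ne (IrreducibleCloseds.ext (Subtype.val_injective.image_injective (congrArg IrreducibleCloseds.carrier e)))
    let σ' := σ.map F hF
    obtain ⟨W, hW, hWsub⟩ := exists_preirreducible (s := (σ'.last : Set S)) σ'.last.isIrreducible.isPreirreducible
    have hWc : W ∈ irreducibleComponents S :=
      ⟨⟨σ'.last.isIrreducible.nonempty.mono hWsub.1, hW⟩, fun W' hW' hle => (hWsub.2 W' hW'.2 hle).le⟩
    have hWcl := isClosed_of_mem_irreducibleComponents W hWc
    let W' : IrreducibleCloseds S := ⟨W, hWc.1, hWcl⟩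
    have hlt : σ'.last < W' := by
      refine lt_of_le_of_ne hWsub.1 fun he => ?_
      have hg := hWc.1.genericPoint_closure_eq
      rw [hWcl.closure_eq] at hg
      refine hmax hWc.1.genericPoint (fun s' hs' => ?_) ?_
      · have hle : W ⊆ closure {s'} := by
          rw [← hg]; exact closure_minimal (Set.singleton_subset_iff.mpr hs'.mem_closure) isClosed_closure
        have hs'W : s' ∈ W := hWc.2 isIrreducible_singleton.closure hle (subset_closure rfl)
        rw [← hg] at hs'W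
        exact specializes_iff_mem_closure.mpr hs'W
      · have h1 : hWc.1.genericPoint ∈ (W' : Set S) := hg.subset (subset_closure rfl)
        rw [← he] at h1
        obtain ⟨t, -, ht⟩ := h1
        exact ht ▸ t.2
    have := TopDim.Basic.length_le (σ'.snoc W' hlt)
    rwa [RelSeries.snoc_length] at this
  rcases isEmpty_or_nonempty (IrreducibleCloseds T) with h | h
  · rw [show topologicalKrullDim T = ⊥ from Order.krullDim_eq_bot_iff.mpr h, WithBot.bot_add]
    exact bot_le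
  · have h0 : topologicalKrullDim T =
        ((⨆ σ : LTSeries (IrreducibleCloseds T), (σ.length : ℕ∞) : ℕ∞) : WithBot ℕ∞) :=
      Order.krullDim_eq_iSup_length
    rw [h0]
    haveI : Nonempty (LTSeries (IrreducibleCloseds T)) := ⟨RelSeries.singleton _ (Classical.arbitrary _)⟩
    obtain ⟨b, hb⟩ : ∃ b : ℕ∞, topologicalKrullDim S = b :=
      WithBot.ne_bot_iff_exists.mp (fun e => WithBot.natCast_ne_bot _ (le_bot_iff.mp (e ▸ key (Classical.arbitrary _)))) |>.imp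
        fun _ h => h.symm
    rw [hb, ← WithBot.coe_one, ← WithBot.coe_add, WithBot.coe_le_coe, ENat.iSup_add]
    refine iSup_le fun σ => ?_
    have := key σ
    rw [hb] at this
    exact_mod_cast this

/-- Monotonicity of the local dimension. -/
theorem localDim_mono {X : Type u} [TopologicalSpace X] {A B : Set X} (h : A ⊆ B) (a : A) :
    FlatMor.localDim A a ≤ FlatMor.localDim B (Set.inclusion h a) := by
  refine le_iInf fun U => ?_
  refine (TopDim.Basic.localDim_le a ⟨Set.inclusion h ⁻¹' U.1, U.1.isOpen.preimage (continuous_inclusion h)⟩ U.2).trans ?_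
  exact dim_le_of_range (φ := fun s : (Set.inclusion h ⁻¹' (U.1 : Set B)) => ((s.1 : A) : X))
    (IsInducing.subtypeVal.comp IsInducing.subtypeVal)
    (IsEmbedding.subtypeVal.comp IsEmbedding.subtypeVal (f := (Subtype.val : (U.1 : Set B) → B)))
    fun s => ⟨⟨_, s.2⟩, rfl⟩

theorem good_mono {X Y : Scheme.{u}} {f : X ⟶ Y} {Z : Set X} {O O' : X.Opens} {d : ℕ}
    (h : Good f Z O d) (hle : O' ≤ O) : Good f Z O' d := fun O'' hO'' => h O'' (hO''.trans hle)

section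
variable {X Y : Scheme.{u}} (f : X ⟶ Y) [LocallyOfFiniteType f] (g : Γ(X, ⊤))

/-- Membership in the zero locus on a chart. -/
theorem fromSpec_mem_zeroLocus {V : X.Opens} (hV : IsAffineOpen V) (Q : PrimeSpectrum Γ(X, V)) :
    hV.fromSpec Q ∈ X.zeroLocus ({g} : Set Γ(X, ⊤)) ↔
      X.presheaf.map (homOfLE (le_top : V ≤ ⊤)).op g ∈ Q.asIdeal := by
  rw [Scheme.zeroLocus_singleton, Set.mem_compl_iff]
  have h := SetLike.ext_iff.mp (hV.fromSpec_preimage_basicOpen (X.presheaf.map (homOfLE (le_top : V ≤ ⊤)).op g)) Q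
  have hmem : hV.fromSpec Q ∈ V := hV.range_fromSpec.subset ⟨_, rfl⟩
  have h2 : hV.fromSpec Q ∈ X.basicOpen (X.presheaf.map (homOfLE (le_top : V ≤ ⊤)).op g) ↔
      hV.fromSpec Q ∈ X.basicOpen g := by
    rw [Scheme.basicOpen_res]
    exact ⟨fun h => h.2, fun h => ⟨hmem, h⟩⟩
  constructor
  · intro hQ
    by_contra hc
    exact hQ (h2.mp (h.mpr hc))
  · intro hQ hc
    exact (h.mp (h2.mpr hc)) hQ

/-- Points maximal in a hypersurface have codimension at most one. -/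
theorem ringKrullDim_stalk_le_one [IsLocallyNoetherian X] (ξ : X)
    (hξ : ξ ∈ X.zeroLocus ({g} : Set Γ(X, ⊤)))
    (hmax : ∀ z ∈ X.zeroLocus ({g} : Set Γ(X, ⊤)), z ⤳ ξ → z = ξ) :
    ringKrullDim (X.presheaf.stalk ξ) ≤ ((1 : ℕ) : WithBot ℕ∞) := by
  obtain ⟨V, hV, hξV, -⟩ := exists_isAffineOpen_mem_and_subset (X := X) (U := ⊤) (x := ξ) trivial
  obtain ⟨P', hP'⟩ := hV.range_fromSpec.superset hξV
  let P : PrimeSpectrum Γ(X, V) := P'
  replace hP' : hV.fromSpec P = ξ := hP'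
  haveI := P.2
  haveI : IsNoetherianRing Γ(X, V) := IsLocallyNoetherian.component_noetherian ⟨V, hV⟩
  letI := X.presheaf.algebra_section_stalk (⟨ξ, hξV⟩ : V)
  haveI : IsLocalization.AtPrime (X.presheaf.stalk ξ) P.asIdeal := by
    have h := hV.isLocalization_stalk ⟨ξ, hξV⟩
    have he : hV.primeIdealOf ⟨ξ, hξV⟩ = P := hV.fromSpec.isOpenEmbedding.injective
      ((hV.fromSpec_primeIdealOf _).trans hP'.symm)
    rwa [he] at h
  rw [IsLocalization.AtPrime.ringKrullDim_eq_height P.asIdeal (X.presheaf.stalk ξ)]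
  let g' : Γ(X, V) := X.presheaf.map (homOfLE (le_top : V ≤ ⊤)).op g
  have h : P.asIdeal.height ≤ ((({g'} : Finset Γ(X, V)).card : ℕ) : ℕ∞) := by
    refine Ideal.height_le_card_of_mem_minimalPrimes_span_finset ⟨⟨P.2, ?_⟩, fun I hI hle => ?_⟩
    · rw [Ideal.span_le, Finset.coe_singleton, Set.singleton_subset_iff]
      exact (fromSpec_mem_zeroLocus g hV P).mp (by rw [hP']; exact hξ)
    · let Q : PrimeSpectrum Γ(X, V) := ⟨I, hI.1⟩
      have hmem : hV.fromSpec Q ∈ X.zeroLocus ({g} : Set Γ(X, ⊤)) :=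
        (fromSpec_mem_zeroLocus g hV Q).mpr (hI.2 (Ideal.subset_span (by simp [g'])))
      have hsp : hV.fromSpec Q ⤳ ξ := hP' ▸ ((PrimeSpectrum.le_iff_specializes Q P).mp hle).map hV.fromSpec.continuous
      have := hmax _ hmem hsp
      rw [← hP'] at this
      have hQP : Q = P := hV.fromSpec.isOpenEmbedding.injective this
      exact hQP ▸ le_rfl
  rw [Finset.card_singleton] at h
  exact WithBot.coe_le_coe.mpr h

/-- A hypersurface avoiding the maximal points of a fibre lowers its dimension. -/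
theorem localDim_add_one_le (x : X) (hgx : x ∈ X.zeroLocus ({g} : Set Γ(X, ⊤)))
    (hmax : ∀ z : X, f z = f x → (∀ z' : X, f z' = f x → z ∈ closure ({z'} : Set X) → z' = z) →
      z ∉ X.zeroLocus ({g} : Set Γ(X, ⊤))) :
    FlatMor.localDim ↥(X.zeroLocus ({g} : Set Γ(X, ⊤)) ∩ f ⁻¹' {f x}) ⟨x, ⟨hgx, rfl⟩⟩ + 1 ≤
      FlatMor.fibreDimAt f x := by
  obtain ⟨O, hxO, hO⟩ := TopDim.Basic.exists_localDim (f.asFiber x)
  rw [show FlatMor.fibreDimAt f x = _ from hO.symm]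
  let ι := f.fiberι (f x)
  let C := X.zeroLocus ({g} : Set Γ(X, ⊤))
  haveI : QuasiSober (O : Set ↥(f.fiber (f x))) := O.2.isOpenEmbedding_subtypeVal.quasiSober
  let T : Set (O : Set ↥(f.fiber (f x))) := {s | ι s.1 ∈ C}
  have hιf : ∀ v, f (ι v) = f x := fun v => (f.range_fiberι (f x)).subset ⟨v, rfl⟩
  refine le_trans (add_le_add ?_ le_rfl) (dim_add_one_le T
    ((X.zeroLocus_isClosed _).preimage (ι.continuous.comp continuous_subtype_val)) fun s hs hsT => ?_)
  · obtain ⟨O₁, hO₁, hO₁e⟩ := ι.isEmbedding.isInducing.isOpen_iff.mp O.2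
    have hxO₁ : x ∈ O₁ := by
      rw [← f.fiberι_asFiber x]
      exact (Set.ext_iff.mp hO₁e _).mpr hxO
    refine (TopDim.Basic.localDim_le _ ⟨_, hO₁.preimage continuous_subtype_val⟩ hxO₁).trans ?_
    refine dim_le_of_range (φ := fun s : ((Subtype.val : ↥(C ∩ f ⁻¹' {f x}) → X) ⁻¹' O₁) => (s.1.1 : X))
      (IsInducing.subtypeVal.comp IsInducing.subtypeVal)
      (g := fun t : T => ι t.1.1) (ι.isEmbedding.comp (IsEmbedding.subtypeVal.comp IsEmbedding.subtypeVal)) ?_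
    rintro ⟨⟨v, hvC, hvf⟩, hvO⟩
    obtain ⟨w, rfl⟩ : v ∈ Set.range ι := by rw [f.range_fiberι]; exact hvf
    exact ⟨⟨⟨w, (Set.ext_iff.mp hO₁e w).mp hvO⟩, hvC⟩, rfl⟩
  · refine hmax (ι s.1) (hιf _) (fun z' hz' hsp => ?_) hsT
    obtain ⟨w, rfl⟩ : z' ∈ Set.range ι := by rw [f.range_fiberι]; exact hz'
    have h1 : w ⤳ s.1 := ι.isEmbedding.isInducing.specializes_iff.mp (specializes_iff_mem_closure.mpr hsp)
    have h2 := hs ⟨w, h1.mem_open O.2 s.2⟩ ((subtype_specializes_iff _ _).mpr h1)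
    exact congrArg ι (h1.antisymm ((subtype_specializes_iff _ _).mp h2)).eq

set_option maxHeartbeats 1000000 in
/-- Equidimensionality of a hypersurface. -/
theorem hypersurface [IrreducibleSpace Y] [IsLocallyNoetherian Y] (x : X) (hf : EGA43.IsEquidimAt f x)
    (hgx : x ∈ X.zeroLocus ({g} : Set Γ(X, ⊤)))
    (hmax : ∀ z : X, f z = f x → (∀ z' : X, f z' = f x → z ∈ closure ({z'} : Set X) → z' = z) →
      z ∉ X.zeroLocus ({g} : Set Γ(X, ⊤))) :
    (∀ w : ↥(Scheme.IdealSheafData.vanishingIdeal ⟨X.zeroLocus ({g} : Set Γ(X, ⊤)), X.zeroLocus_isClosed _⟩).subscheme,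
        (Scheme.IdealSheafData.vanishingIdeal ⟨X.zeroLocus ({g} : Set Γ(X, ⊤)), X.zeroLocus_isClosed _⟩).subschemeι.base w = x →
        EGA43.IsEquidimAt ((Scheme.IdealSheafData.vanishingIdeal ⟨X.zeroLocus ({g} : Set Γ(X, ⊤)), X.zeroLocus_isClosed _⟩).subschemeι ≫ f) w) ∧
      FlatMor.localDim ↥(X.zeroLocus ({g} : Set Γ(X, ⊤)) ∩ f ⁻¹' {f x}) ⟨x, ⟨hgx, rfl⟩⟩ + 1 = FlatMor.fibreDimAt f x ∧
      ∀ ξ ∈ X.zeroLocus ({g} : Set Γ(X, ⊤)), ξ ⤳ x →
        (∀ z ∈ X.zeroLocus ({g} : Set Γ(X, ⊤)), z ⤳ ξ → z = ξ) →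
        ringKrullDim (X.presheaf.stalk ξ) = 1 := by
  haveI : IsLocallyNoetherian X := LocallyOfFiniteType.isLocallyNoetherian f
  have hlow := localDim_add_one_le f g x hgx hmax
  have piece : ∀ ξ ∈ X.zeroLocus ({g} : Set Γ(X, ⊤)), ∀ hξx : ξ ⤳ x,
      (∀ z ∈ X.zeroLocus ({g} : Set Γ(X, ⊤)), z ⤳ ξ → z = ξ) →
      ringKrullDim (X.presheaf.stalk ξ) = ((1 : ℕ) : WithBot ℕ∞) ∧ f ξ = genericPoint Y ∧
        FlatMor.localDim ↥(closure ({ξ} : Set X) ∩ f ⁻¹' {f x}) ⟨x, ⟨hξx.mem_closure, rfl⟩⟩ + (1 : ℕ) =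
            FlatMor.fibreDimAt f x ∧
          ∃ (d : ℕ) (O : X.Opens), x ∈ O ∧ FlatMor.fibreDimAt f x = ((d + 1 : ℕ) : WithBot ℕ∞) ∧
            Good f (closure {ξ}) O d := fun ξ hξ hξx hξmax => by
    refine main f x hf ξ _ rfl hξx.mem_closure 1 (ringKrullDim_stalk_le_one g ξ hξ hξmax) ?_
    refine le_trans ?_ hlow
    rw [Nat.cast_one]
    refine add_le_add ?_ le_rfl
    exact localDim_mono (A := closure ({ξ} : Set X) ∩ f ⁻¹' {f x}) (B := X.zeroLocus ({g} : Set Γ(X, ⊤)) ∩ f ⁻¹' {f x})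
      (Set.inter_subset_inter_left _ (closure_minimal (Set.singleton_subset_iff.mpr hξ) (X.zeroLocus_isClosed _))) _
  obtain ⟨V, hV, hxV, -⟩ := exists_isAffineOpen_mem_and_subset (X := X) (U := ⊤) (x := x) trivial
  haveI : IsNoetherianRing Γ(X, V) := IsLocallyNoetherian.component_noetherian ⟨V, hV⟩
  obtain ⟨Px', hPx'⟩ := hV.range_fromSpec.superset hxV
  let Px : PrimeSpectrum Γ(X, V) := Px'
  replace hPx' : hV.fromSpec Px = x := hPx'
  let g' : Γ(X, V) := X.presheaf.map (homOfLE (le_top : V ≤ ⊤)).op g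
  let MM : Set (PrimeSpectrum Γ(X, V)) := {Q | Q.asIdeal ∈ (Ideal.span {g'}).minimalPrimes}
  have hMM : MM.Finite := ((Ideal.span {g'}).finite_minimalPrimes_of_isNoetherianRing _).preimage
    (fun a _ b _ h => PrimeSpectrum.ext h)
  let NN : Set (PrimeSpectrum Γ(X, V)) := {Q | Q ∈ MM ∧ Q ≤ Px}
  have hmem : ∀ Q ∈ MM, hV.fromSpec Q ∈ X.zeroLocus ({g} : Set Γ(X, ⊤)) ∧
      ∀ z ∈ X.zeroLocus ({g} : Set Γ(X, ⊤)), z ⤳ hV.fromSpec Q → z = hV.fromSpec Q := fun Q hQ => by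
    refine ⟨(fromSpec_mem_zeroLocus g hV Q).mpr (hQ.1.2 (Ideal.mem_span_singleton_self _)), fun z hz hsp => ?_⟩
    obtain ⟨R', hR'⟩ := hV.range_fromSpec.superset (hsp.mem_open V.isOpen (hV.range_fromSpec.subset ⟨_, rfl⟩))
    let R : PrimeSpectrum Γ(X, V) := R'
    replace hR' : hV.fromSpec R = z := hR'
    subst hR'
    have hle : R ≤ Q := (PrimeSpectrum.le_iff_specializes R Q).mpr
      (hV.fromSpec.isOpenEmbedding.isInducing.specializes_iff.mp hsp)
    refine congrArg _ (le_antisymm hle (hQ.2 ⟨R.2, ?_⟩ hle) : R = Q)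
    rw [Ideal.span_le, Set.singleton_subset_iff]
    exact (fromSpec_mem_zeroLocus g hV R).mp hz
  have hspx : ∀ Q ∈ NN, hV.fromSpec Q ⤳ x := fun Q hQ =>
    hPx' ▸ ((PrimeSpectrum.le_iff_specializes Q Px).mp hQ.2).map hV.fromSpec.continuous
  obtain ⟨Q₀, hQ₀⟩ : NN.Nonempty := by
    obtain ⟨m, hm, hle⟩ := Ideal.exists_minimalPrimes_le (I := Ideal.span {g'}) (J := Px.asIdeal) (by
      rw [Ideal.span_le, Set.singleton_subset_iff]
      exact (fromSpec_mem_zeroLocus g hV Px).mp (by rw [hPx']; exact hgx))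
    exact ⟨⟨m, hm.1.1⟩, hm, hle⟩
  obtain ⟨-, -, hQ₀dim, d, -, -, hd, -⟩ :=
    piece _ (hmem Q₀ hQ₀.1).1 (hspx Q₀ hQ₀) (hmem Q₀ hQ₀.1).2
  refine ⟨fun w hw => ?_, le_antisymm hlow ?_, fun ξ hξ hξx hξmax => ?_⟩
  · have hgood : ∀ Q ∈ NN, f (hV.fromSpec Q) = genericPoint Y ∧
        ∃ O : X.Opens, x ∈ O ∧ Good f (closure {hV.fromSpec Q}) O d := fun Q hQ => by
      obtain ⟨-, h2, -, d', O, hxO, hd', hG⟩ := piece _ (hmem Q hQ.1).1 (hspx Q hQ) (hmem Q hQ.1).2
      refine ⟨h2, O, hxO, ?_⟩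
      rw [hd, Nat.cast_inj] at hd'
      obtain rfl : d = d' := by omega
      exact hG
    choose hgen Os hxOs hGs using hgood
    have hN : NN.Finite := hMM.subset fun Q hQ => hQ.1
    haveI := hN.to_subtype
    let bad : Set X := ⋃ Q ∈ MM \ NN, closure {hV.fromSpec Q}
    have hbad : IsClosed bad := (hMM.subset Set.diff_subset).isClosed_biUnion fun _ _ => isClosed_closure
    have hxbad : x ∉ bad := fun h => by
      simp only [bad, Set.mem_iUnion] at h
      obtain ⟨Q, ⟨hQM, hQN⟩, hQx⟩ := h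
      refine hQN ⟨hQM, (PrimeSpectrum.le_iff_specializes Q Px).mpr
        (hV.fromSpec.isOpenEmbedding.isInducing.specializes_iff.mp ?_)⟩
      rw [hPx']; exact specializes_iff_mem_closure.mpr hQx
    let O : X.Opens := ⟨(V : Set X) ∩ badᶜ ∩ ⋂ Q : NN, (Os Q.1 Q.2 : Set X),
      (V.isOpen.inter hbad.isOpen_compl).inter (isOpen_iInter_of_finite fun Q => (Os Q.1 Q.2).isOpen)⟩
    refine isEquidimAt_of_good f ⟨_, X.zeroLocus_isClosed _⟩ O (hV.fromSpec '' NN) d (fun c hc hcO => ?_) ?_ ?_ ?_ w ?_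
    · obtain ⟨⟨hcV, hcb⟩, -⟩ := hcO
      obtain ⟨R', hR'⟩ := hV.range_fromSpec.superset hcV
      let R : PrimeSpectrum Γ(X, V) := R'
      replace hR' : hV.fromSpec R = c := hR'
      obtain ⟨m, hm, hle⟩ := Ideal.exists_minimalPrimes_le (I := Ideal.span {g'}) (J := R.asIdeal) (by
        rw [Ideal.span_le, Set.singleton_subset_iff]
        exact (fromSpec_mem_zeroLocus g hV R).mp (by rw [hR']; exact hc))
      let Q : PrimeSpectrum Γ(X, V) := ⟨m, hm.1.1⟩
      have hsp : hV.fromSpec Q ⤳ c := hR' ▸ ((PrimeSpectrum.le_iff_specializes Q R).mp hle).map hV.fromSpec.continuous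
      by_cases hQN : Q ∈ NN
      · exact ⟨_, ⟨Q, hQN, rfl⟩, hsp⟩
      · exact absurd (Set.mem_biUnion (s := MM \ NN) (t := fun Q => closure {hV.fromSpec Q}) ⟨hm, hQN⟩ hsp.mem_closure) hcb
    · rintro _ ⟨Q, hQ, rfl⟩; exact (hmem Q hQ.1).1
    · rintro _ ⟨Q, hQ, rfl⟩; exact hgen Q hQ
    · rintro _ ⟨Q, hQ, rfl⟩
      exact good_mono (hGs Q hQ) fun c hc => Set.mem_iInter.mp hc.2 ⟨Q, hQ⟩
    · rw [hw]
      exact ⟨⟨hxV, hxbad⟩, Set.mem_iInter.mpr fun Q => hxOs Q.1 Q.2⟩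
  · rw [← hQ₀dim, Nat.cast_one]
    refine add_le_add ?_ le_rfl
    exact localDim_mono (A := closure ({hV.fromSpec Q₀} : Set X) ∩ f ⁻¹' {f x}) (B := X.zeroLocus ({g} : Set Γ(X, ⊤)) ∩ f ⁻¹' {f x})
      (Set.inter_subset_inter_left _ (closure_minimal (Set.singleton_subset_iff.mpr (hmem Q₀ hQ₀.1).1) (X.zeroLocus_isClosed _))) _
  · rw [(piece ξ hξ hξx hξmax).1, Nat.cast_one]

end

end Groth.Agent.Equidim
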